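import Cfsg.Agent.H970.TwoSporBase_m3
import Cfsg.Prelude.Def_KGroupFacts
import Cfsg.Agent.J2Type.SylowSeven
import Cfsg.Agent.FastGrp
import Cfsg.Agent.Prune
set_option linter.all false

section
prune_inst 0x7f00000000000000000000000000000000000000000000000000000000000000000000000000000000000000000000000000000000000000000000000000000000000000000000000000000000000000003fffffffffffffffffffffffffffbeffbdffffffff

-- part: H970/TwoSporPack
section
set_option linter.all false
open scoped Cfsg.Agent.FastGrp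

/-!
# Packaging of the engine (helper970)
-/

set_option autoImplicit false

namespace Cfsg.Agent.H970.TwoSpor

open Subgroup MulAction Cfsg.Agent.H384.TwoTrans Cfsg.Agent.H970.StabNum

universe u v

/-- numerical checks on the data -/
def okData (N : ℕ) (data : List (ℕ × ℕ × ℕ)) : Bool :=
  Nat.blt N (2 ^ 80) && data.all fun x => N % (x.1 * x.1) != 0 && (Nat.blt 0 x.2.1 && (Nat.blt x.2.1 256 &&
    Nat.blt 0 x.2.2))

theorem mk_data {T : Type u} [Group T] [Finite T] (OT : OrdDiv.OrderTable.{u})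
    (hS : ∀ (X : Type u) [Group X] [Finite X] [IsSimpleGroup X], Cfsg.IsKnownSimple' X)
    {N : ℕ} {l : List (ℕ × ℕ)} {data : List (ℕ × ℕ × ℕ)} {ps tbl : List ℕ} (hN : Nat.card T = N)
    (hv : OrdDiv.valid l N = true) (hd : okData N data = true) (hp : ∀ x ∈ data, (x.1).Prime)
    (hps : ∀ r ∈ ps, r.Prime) (ht : ((OrdDiv.cands l N).all fun g => tbl.contains (OrdDiv.ordN g)) = true)
    (hc : ∀ x ∈ data, ∀ P : Subgroup T, Nat.card P = x.1 →
      Nat.card (centralizer (P : Set T)) ∣ x.1 * x.2.1 ∧ Nat.card (normalizer (P : Set T)) ∣ x.1 * x.2.2) :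
    Data T data ps tbl := by
  subst hN
  unfold okData at hd
  rw [Bool.and_eq_true, List.all_eq_true, Nat.blt_eq] at hd
  refine ⟨inferInstance, hd.1, fun x hx => ?_, hc, hps, fun K _ _ hK hna hd' => mem_tbl OT hS hv ht K hK hna hd'⟩
  have h1 := hd.2 x hx
  simp only [Bool.and_eq_true, Nat.blt_eq] at h1
  obtain ⟨h2, h3, h4, h5⟩ := h1
  refine ⟨hp x hx, fun h => ?_, h3, h4, h5⟩
  rw [pow_two] at h
  have h6 := Nat.mod_eq_zero_of_dvd h
  rw [h6] at h2
  exact absurd h2 (by decide)

theorem js_two : ∀ j, j ∣ 2 → j ∈ ([1, 2] : List ℕ) := by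
  intro j hj
  rcases (Nat.dvd_prime Nat.prime_two).1 hj with rfl | rfl
  · exact List.mem_cons_self
  · exact List.mem_cons_of_mem _ List.mem_cons_self

theorem js_one : ∀ j, j ∣ 1 → j ∈ ([1] : List ℕ) := by
  intro j hj
  simp [Nat.dvd_one.1 hj]

/-- the index of the inner automorphisms is an isomorphism invariant -/
theorem index_conj_congr {K L : Type*} [Group K] [Group L] (e : K ≃* L) :
    (MulAut.conj : K →* MulAut K).range.index = (MulAut.conj : L →* MulAut L).range.index := by
  have h1 : (MulAut.conj : K →* MulAut K).range =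
      ((MulAut.conj : L →* MulAut L).range).comap (MulAut.congr e).toMonoidHom := by
    ext f
    constructor
    · rintro ⟨g, rfl⟩
      refine ⟨e g, ?_⟩
      ext x
      simp [MulAut.congr]
    · rintro ⟨g, hg⟩
      refine ⟨e.symm g, ?_⟩
      ext x
      have h2 := congrArg (fun φ : MulAut L => φ (e x)) hg
      simp only [MulAut.conj_apply, MulEquiv.toMonoidHom_eq_coe, MonoidHom.coe_coe] at h2
      have h3 : e (f x) = g * e x * g⁻¹ := by
        rw [h2]; simp [MulAut.congr]
      apply e.injective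
      rw [h3, MulAut.conj_apply, map_mul, map_mul, map_inv, MulEquiv.apply_symm_apply]
  rw [h1, Subgroup.index_comap_of_surjective _ (MulAut.congr e).surjective]

theorem index_of_out {K L : Type*} [Group K] [Group L] (e : Nonempty (K ≃* L)) {j : ℕ}
    (h : Nat.card (Cfsg.Out L) = j) : (MulAut.conj : K →* MulAut K).range.index ∣ j := by
  obtain ⟨e⟩ := e
  rw [index_conj_congr e, ← h]
  exact dvd_rfl

/-- all checks for a row -/
def allOk (N : ℕ) (l : List (ℕ × ℕ)) (data : List (ℕ × ℕ × ℕ)) (ps tbl : List ℕ) : Bool :=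
  OrdDiv.valid l N && (okData N data && (data.all (fun x => OrdDiv.isPrimeB x.1) && (ps.all OrdDiv.isPrimeB &&
    (OrdDiv.cands l N).all fun g => tbl.contains (OrdDiv.ordN g))))

variable {G : Type u} {Ω : Type v} [Group G] [MulAction G Ω] {T : Subgroup G}

theorem deg_mem (A : AS G Ω T) (OT : OrdDiv.OrderTable.{u})
    (hS : ∀ (X : Type u) [Group X] [Finite X] [IsSimpleGroup X], Cfsg.IsKnownSimple' X)
    {N out : ℕ} {js : List ℕ} {l : List (ℕ × ℕ)} {data : List (ℕ × ℕ × ℕ)} {ps tbl : List ℕ} (hN : Nat.card ↥T = N)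
    (ho : (MulAut.conj : ↥T →* MulAut ↥T).range.index ∣ out) (hjs : ∀ j, j ∣ out → j ∈ js)
    (hok : allOk N l data ps tbl = true)
    (hc : ∀ x ∈ data, ∀ P : Subgroup ↥T, Nat.card P = x.1 →
      Nat.card (centralizer (P : Set ↥T)) ∣ x.1 * x.2.1 ∧ Nat.card (normalizer (P : Set ↥T)) ∣ x.1 * x.2.2)
    {s : List ℕ} (hs : ((survives N out js l data ps tbl).all fun n => s.contains n) = true) :
    Nat.card Ω ∈ s := by
  have := A.finT
  unfold allOk at hok
  simp only [Bool.and_eq_true] at hok
  obtain ⟨h1, h2, h3, h4, h5⟩ := hok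
  rw [List.all_eq_true] at h3 h4
  have h6 := mem_survives A hN (card_dvd A ho) hjs h1 (mk_data OT hS hN h1 h2 (fun x hx => OrdDiv.prime_of (h3 x hx))
    (fun r hr => OrdDiv.prime_of (h4 r hr)) h5 hc)
  rw [List.all_eq_true] at hs
  simpa using hs _ h6

end Cfsg.Agent.H970.TwoSpor
end

-- part: H251/Small/Num
section
set_option linter.all false
open scoped Cfsg.Agent.FastGrp

/-!
# Orders and structure of subgroups from the data at one prime (helper251)

Strengthened form of `H970.StabNum.Data.feas`: the simple section is a simple group, and it is the whole group if the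
other factors are `1`. `cent_norm`: the data at a self-centralising subgroup of prime order. `mem_surv`: orders of the
subgroups divisible by given primes.
-/

set_option autoImplicit false

namespace Cfsg.Agent.H251.Small

open Subgroup Cfsg.Agent.H970.StabNum

universe u

/-- the numerical conditions on `(c, s, D)` -/
def pass (p k M : ℕ) (ps : List ℕ) (h c s D : ℕ) : Bool :=
  Nat.blt 0 c && (M % c == 0 && (h % c == 0 && (s % p == 0 && (h / c % s == 0 &&
    (Nat.blt 0 D && (k % D == 0 && (M % (c * D) == 0 &&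
        (h / c / s % p != 0 && (ps.all (okr p (h / c / s) D) && (s == p || okm p M c D s))))))))))

variable {T : Type u} [Group T]

theorem exists_pass {data : List (ℕ × ℕ × ℕ)} {ps tbl : List ℕ} (D : Data T data ps tbl) (H : Subgroup T)
    {p k M : ℕ} (hx : (p, k, M) ∈ data) (hpH : Nat.card H % p = 0) :
    ∃ a s c D', Nat.card H = a * s * c ∧ c ∈ List.range (M + 1) ∧ s ∈ p :: tbl ∧ D' ∈ List.range (k + 1) ∧
      pass p k M ps (Nat.card H) c s D' = true ∧
      (s = p ∨ ∃ (K : Type u) (_ : Group K) (_ : Finite K), IsSimpleGroup K ∧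
        (¬ ∀ x y : K, x * y = y * x) ∧ Nat.card K = s ∧ (a = 1 → c = 1 → Nonempty (H ≃* K))) := by
  have := D.fin
  obtain ⟨hp, hp2, hk0, hk, hM0⟩ := D.prime _ hx
  have hcent := D.cent _ hx
  simp only at hp hp2 hk0 hk hM0 hcent
  have hfp : Fact p.Prime := ⟨hp⟩
  have hpH' : p ∣ Nat.card H := Nat.dvd_of_mod_eq_zero hpH
  obtain ⟨x, hx1⟩ := exists_prime_orderOf_dvd_card' p hpH'
  have hP : Nat.card (zpowers x) = p := by rw [Nat.card_zpowers, hx1]
  have hHT : Nat.card H ∣ Nat.card T := Subgroup.card_subgroup_dvd_card H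
  have hpH2 : ¬ p ^ 2 ∣ Nat.card H := fun h => hp2 (h.trans hHT)
  obtain ⟨a, s, c, m, D', h1, h2, h3, h4, h5, h6⟩ := Cfsg.Agent.H970.StabK.exists_struct hP hpH2
  have hHpos : 0 < Nat.card H := Nat.card_pos
  have ha0 : a ≠ 0 := by rintro rfl; simp at h1; omega
  have hs0 : s ≠ 0 := by rintro rfl; simp at h1; omega
  have hc0 : c ≠ 0 := by rintro rfl; simp at h1; omega
  have hPT : Nat.card ((zpowers x).map H.subtype) = p := by
    rw [← hP]
    exact (Nat.card_congr ((zpowers x).equivMapOfInjective _ H.subtype_injective).toEquiv).symm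
  obtain ⟨hC, hN⟩ := hcent _ hPT
  -- the centralizer in `H`
  have hcH : Nat.card (centralizer ((zpowers x : Subgroup H) : Set H)) ∣
      Nat.card (centralizer (((zpowers x).map H.subtype : Subgroup T) : Set T)) := by
    have hle : (centralizer ((zpowers x : Subgroup H) : Set H)).map H.subtype ≤
        centralizer (((zpowers x).map H.subtype : Subgroup T) : Set T) := by
      rintro _ ⟨y, hy, rfl⟩
      rw [Subgroup.mem_centralizer_iff]
      rintro _ ⟨z, hz, rfl⟩
      exact congrArg Subtype.val (Subgroup.mem_centralizer_iff.1 hy z hz)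
    have h7 := Subgroup.card_dvd_of_le hle
    rwa [Nat.card_congr (Subgroup.equivMapOfInjective _ H.subtype H.subtype_injective).toEquiv.symm] at h7
  have hnH : Nat.card (normalizer ((zpowers x : Subgroup H) : Set H)) ∣
      Nat.card (normalizer (((zpowers x).map H.subtype : Subgroup T) : Set T)) := by
    have hle : (normalizer ((zpowers x : Subgroup H) : Set H)).map H.subtype ≤
        normalizer (((zpowers x).map H.subtype : Subgroup T) : Set T) := by
      have h8 := Subgroup.le_normalizer_map (H := zpowers x) H.subtype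
      exact h8
    have h7 := Subgroup.card_dvd_of_le hle
    rwa [Nat.card_congr (Subgroup.equivMapOfInjective _ H.subtype H.subtype_injective).toEquiv.symm] at h7
  have hDk : D' ∣ k := by
    have h8 : D' ∣ p * k := (h4.trans hcH).trans hC
    have h9 : Nat.Coprime D' p := by
      rw [Nat.coprime_comm, hp.coprime_iff_not_dvd]
      intro hpD
      have h10 : p ^ 2 ∣ Nat.card H := by
        have h11 : p ^ 2 ∣ c * D' * (p * m) := by
          obtain ⟨e, he⟩ := hpD
          exact ⟨c * e * m, by rw [he]; ring⟩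
        rw [← h3] at h11
        exact h11.trans (Subgroup.card_subgroup_dvd_card _)
      exact hpH2 h10
    exact h9.dvd_of_dvd_mul_left h8
  have hcDm : c * D' * m ∣ M := by
    have h8 : c * D' * (p * m) ∣ p * M := by rw [← h3]; exact hnH.trans hN
    have h9 : p * (c * D' * m) ∣ p * M := by
      have : c * D' * (p * m) = p * (c * D' * m) := by ring
      rwa [this] at h8
    exact Nat.dvd_of_mul_dvd_mul_left hp.pos h9
  have hD0 : D' ≠ 0 := by rintro rfl; simp at hDk; omega
  have hm0 : m ≠ 0 := by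
    rintro rfl
    simp at hcDm
    omega
  have hcD : c * D' ∣ M := (Dvd.intro m rfl).trans hcDm
  have hcM : c ∣ M := (Dvd.intro D' rfl).trans hcD
  have hDM : D' ≤ k := Nat.le_of_dvd hk0 hDk
  have hcle : c ≤ M := Nat.le_of_dvd hM0 hcM
  have hmle : m ≤ M := Nat.le_of_dvd hM0 ((Dvd.intro_left (c * D') rfl).trans hcDm)
  have e1 : Nat.card H / c = a * s := by rw [h1]; exact Nat.mul_div_cancel _ (Nat.pos_of_ne_zero hc0)
  have e2 : Nat.card H / c / s = a := by rw [e1]; exact Nat.mul_div_cancel _ (Nat.pos_of_ne_zero hs0)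
  have halt : a < 2 ^ 80 := by
    have h8 : a ≤ Nat.card T := Nat.le_of_dvd Nat.card_pos
      ((Dvd.intro (s * c) (by rw [h1]; ring)).trans hHT)
    exact lt_of_le_of_lt h8 D.lt
  have hsp : p ∣ s := by
    rcases h6 with ⟨rfl, -⟩ | ⟨K, _, _, _, _, _, h, _⟩
    · exact dvd_rfl
    · exact h
  have hsmem : s ∈ p :: tbl := by
    rcases h6 with ⟨rfl, -⟩ | ⟨K, _, _, hK, hna, hKs, _⟩
    · exact List.mem_cons_self
    · refine List.mem_cons_of_mem _ ?_
      rw [← hKs]
      refine D.tbl K hK hna ?_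
      rw [hKs]
      exact (Dvd.intro (a * c) (by rw [h1]; ring)).trans hHT
  refine ⟨a, s, c, D', h1, List.mem_range.2 (by omega), hsmem, List.mem_range.2 (by omega), ?_, ?_⟩
  · unfold pass
    refine bandI (by rw [Nat.blt_eq]; omega) (bandI (beqI (Nat.mod_eq_zero_of_dvd hcM))
      (bandI (beqI (Nat.mod_eq_zero_of_dvd ⟨a * s, by rw [h1]; ring⟩)) ?_))
    refine bandI (beqI (Nat.mod_eq_zero_of_dvd hsp)) (bandI (beqI ?_) ?_)
    · rw [e1]; exact Nat.mul_mod_left _ _
    refine bandI (by rw [Nat.blt_eq]; omega) (bandI (beqI (Nat.mod_eq_zero_of_dvd hDk))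
      (bandI (beqI (Nat.mod_eq_zero_of_dvd hcD)) ?_))
    rw [e2]
    refine bandI ?_ (bandI ?_ ?_)
    · have : a % p ≠ 0 := fun h => h2 (Nat.dvd_of_mod_eq_zero h)
      simpa using this
    · rw [List.all_eq_true]
      intro r hr
      obtain ⟨j, hj1, hj2⟩ := h5 r (D.ps r hr)
      have hr1 := D.ps r hr
      unfold okr
      simp only
      rw [pp_eq hr1 80 a ha0 halt, List.any_eq_true]
      refine ⟨j, List.mem_range.2 ?_, bandI (beqI (Nat.mod_eq_zero_of_dvd hj1)) (beqI hj2)⟩
      by_contra hcon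
      push Not at hcon
      have h9 : 2 ^ 8 ≤ r ^ j :=
        (Nat.pow_le_pow_left hr1.two_le 8).trans (Nat.pow_le_pow_right hr1.pos hcon)
      have h10 := Nat.le_of_dvd (Nat.pos_of_ne_zero hD0) hj1
      norm_num at h9
      omega
    · rcases h6 with ⟨rfl, -⟩ | ⟨K, _, _, _, _, _, _, hm2, hmd, hmm, _⟩
      · simp
      · rw [Bool.or_eq_true]
        right
        unfold okm
        rw [List.any_eq_true]
        exact ⟨m, List.mem_range.2 (by omega), bandI (by rw [Nat.ble_eq]; exact hm2)
          (bandI (beqI (Nat.mod_eq_zero_of_dvd hcDm)) (bandI (beqI (Nat.mod_eq_zero_of_dvd hmd)) (beqI hmm)))⟩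
  · rcases h6 with ⟨h, -⟩ | ⟨K, i1, i2, hK, hna, hKs, _, _, _, _, hi⟩
    · exact Or.inl h
    · exact Or.inr ⟨K, i1, i2, hK, hna, hKs, hi⟩

/-- for the order `h` only `c = 1`, `s = h` pass. -/
def onlyTop (p k M : ℕ) (ps tbl : List ℕ) (h : ℕ) : Bool :=
  (List.range (M + 1)).all fun c => (p :: tbl).all fun s => (List.range (k + 1)).all fun D =>
    !(pass p k M ps h c s D) || (Nat.beq c 1 && Nat.beq s h)

theorem simple_of {data : List (ℕ × ℕ × ℕ)} {ps tbl : List ℕ} (D : Data T data ps tbl) (H : Subgroup T)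
    {p k M h : ℕ} (hx : (p, k, M) ∈ data) (hh : Nat.card H = h) (hpH : h % p = 0) (hne : h ≠ p)
    (hchk : onlyTop p k M ps tbl h = true) : IsSimpleGroup H ∧ ¬ ∀ x y : H, x * y = y * x := by
  subst hh
  obtain ⟨a, s, c, D', h1, h2, h3, h4, h5, h6⟩ := exists_pass D H hx hpH
  unfold onlyTop at hchk
  rw [List.all_eq_true] at hchk
  have h7 := hchk c h2
  rw [List.all_eq_true] at h7
  have h8 := h7 s h3
  rw [List.all_eq_true] at h8
  have h9 := h8 D' h4
  rw [h5, Bool.not_true, Bool.false_or, Bool.and_eq_true, Nat.beq_eq, Nat.beq_eq] at h9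
  obtain ⟨hc, hs⟩ := h9
  have hfin := D.fin
  rcases h6 with h6 | ⟨K, i1, i2, hK, hna, hKs, hi⟩
  · exact absurd (hs.symm.trans h6) hne
  · have ha : a = 1 := by
      rw [hc, mul_one, hs] at h1
      have h10 : 0 < Nat.card H := Nat.card_pos
      have h11 : 1 * Nat.card H = a * Nat.card H := by rw [one_mul]; exact h1
      exact (Nat.eq_of_mul_eq_mul_right h10 h11).symm
    obtain ⟨e⟩ := hi ha hc
    exact ⟨e.isSimpleGroup, fun h => hna fun x y => by
      have := congrArg e (h (e.symm x) (e.symm y))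
      simpa using this⟩

/-- all orders divisible by the numbers of `prs` which are feasible -/
def surv (data : List (ℕ × ℕ × ℕ)) (ps tbl : List ℕ) (l : List (ℕ × ℕ)) (prs : List ℕ) : List ℕ :=
  (divs l).filter fun h => (prs.all fun r => Nat.beq (h % r) 0) && feasAll data ps tbl h

theorem mem_surv {data : List (ℕ × ℕ × ℕ)} {ps tbl : List ℕ} (D : Data T data ps tbl) {l : List (ℕ × ℕ)}
    {prs : List ℕ} (hv : OrdDiv.valid l (Nat.card T) = true) (H : Subgroup T)
    (hH : ∀ r ∈ prs, r ∣ Nat.card H) : Nat.card H ∈ surv data ps tbl l prs := by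
  have := D.fin
  unfold surv
  rw [List.mem_filter]
  refine ⟨mem_divs_of_valid hv (Subgroup.card_subgroup_dvd_card H), ?_⟩
  rw [Bool.and_eq_true, List.all_eq_true]
  refine ⟨fun r hr => ?_, D.feas H⟩
  rw [Nat.beq_eq]
  exact Nat.mod_eq_zero_of_dvd (hH r hr)

/-- the data at a self-centralising subgroup of prime order. -/
theorem cent_norm [Finite T] {r M : ℕ} (hr : r.Prime) (h2 : ¬ r ^ 2 ∣ Nat.card T)
    (hR : ∃ R : Subgroup T, Nat.card R = r ∧ centralizer (R : Set T) = R)
    (hM : ∀ m, m ∣ r - 1 → r * m ∣ Nat.card T → Nat.card T / (r * m) % r = 1 % r → m ∣ M) (P : Subgroup T)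
    (hP : Nat.card P = r) :
    Nat.card (centralizer (P : Set T)) ∣ r * 1 ∧ Nat.card (normalizer (P : Set T)) ∣ r * M := by
  have hfr : Fact r.Prime := ⟨hr⟩
  have key : ∀ Q : Subgroup T, Nat.card Q = r → ∃ S : Sylow r T, (S : Subgroup T) = Q := by
    intro Q hQ
    have h3 : IsPGroup r Q := IsPGroup.of_card (n := 1) (by rw [hQ, pow_one])
    obtain ⟨S, hS⟩ := h3.exists_le_sylow
    refine ⟨S, ?_⟩
    have h4 : Nat.card S ∣ r := by
      obtain ⟨k, hk⟩ := IsPGroup.iff_card.1 S.2
      have h5 : Nat.card S ∣ Nat.card T := Subgroup.card_subgroup_dvd_card _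
      rw [hk] at h5 ⊢
      have h6 : k < 2 := by
        by_contra hcon
        push Not at hcon
        exact h2 ((pow_dvd_pow r hcon).trans h5)
      interval_cases k
      · simp
      · simp
    exact (Subgroup.eq_of_le_of_card_ge hS (by rw [hQ]; exact Nat.le_of_dvd hr.pos h4)).symm
  obtain ⟨R, hR1, hR2⟩ := hR
  obtain ⟨S, rfl⟩ := key R hR1
  obtain ⟨S', rfl⟩ := key P hP
  obtain ⟨g, hg⟩ := MulAction.exists_smul_eq T S S'
  have hcent : Nat.card (centralizer ((S' : Subgroup T) : Set T)) = r := by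
    have h5 : centralizer ((S' : Subgroup T) : Set T) = (S' : Subgroup T) := by
      rw [← hg]
      ext x
      have h6 : ∀ y : T, y ∈ ((g • S : Sylow r T) : Subgroup T) ↔ g⁻¹ * y * g ∈ (S : Subgroup T) := by
        intro y
        rw [Sylow.coe_subgroup_smul, Subgroup.mem_pointwise_smul_iff_inv_smul_mem, ← map_inv,
          MulAut.smul_def, MulAut.conj_apply, inv_inv]
      rw [h6, ← hR2, Subgroup.mem_centralizer_iff, Subgroup.mem_centralizer_iff]
      constructor
      · intro h y hy
        have h7 := h (g * y * g⁻¹) ((h6 _).2 (by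
          have : g⁻¹ * (g * y * g⁻¹) * g = y := by group
          rw [this]; exact hy))
        calc y * (g⁻¹ * x * g) = g⁻¹ * (g * y * g⁻¹ * x) * g := by group
          _ = g⁻¹ * (x * (g * y * g⁻¹)) * g := by rw [h7]
          _ = g⁻¹ * x * g * y := by group
      · intro h y hy
        have h7 := h (g⁻¹ * y * g) ((h6 _).1 hy)
        calc y * x = g * (g⁻¹ * y * g * (g⁻¹ * x * g)) * g⁻¹ := by group
          _ = g * (g⁻¹ * x * g * (g⁻¹ * y * g)) * g⁻¹ := by rw [h7]
          _ = x * y := by group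
    rw [h5, hP]
  have hN := Cfsg.Agent.J2Type.SylowSeven.relIndex_dvd_of_card_prime (S' : Subgroup T) hr hP
  obtain ⟨m, hm⟩ : ∃ m, m = (centralizer ((S' : Subgroup T) : Set T)).relIndex
    (normalizer ((S' : Subgroup T) : Set T)) := ⟨_, rfl⟩
  have hcN : Nat.card (normalizer ((S' : Subgroup T) : Set T)) = r * m := by
    have h6 := Subgroup.relIndex_mul_relIndex ⊥ (centralizer ((S' : Subgroup T) : Set T))
      (normalizer ((S' : Subgroup T) : Set T)) bot_le (centralizer_le_normalizer _)
    rw [Subgroup.relIndex_bot_left, Subgroup.relIndex_bot_left, hcent, ← hm] at h6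
    exact h6.symm
  rw [← hm] at hN
  refine ⟨by rw [hcent, mul_one], ?_⟩
  rw [hcN]
  refine Nat.mul_dvd_mul_left r (hM m hN ?_ ?_)
  · rw [← hcN]
    exact Subgroup.card_subgroup_dvd_card _
  · have h7 := card_sylow_modEq_one r T
    rw [Sylow.card_eq_index_normalizer S'] at h7
    have h8 : Nat.card T / (r * m) = (normalizer ((S' : Subgroup T) : Set T)).index := by
      rw [← hcN, ← Subgroup.card_mul_index (normalizer ((S' : Subgroup T) : Set T)),
        Nat.mul_div_cancel_left _ Nat.card_pos]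
    rw [h8]
    exact h7

end Cfsg.Agent.H251.Small
end
end
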