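import Cfsg.Agent.ClassicalGeometry.PSUAutMain
import Cfsg.Agent.H278.ElDefs
import Mathlib
import Cfsg.Agent.H251.Small.Num
import Cfsg.Agent.H447.MElems
import Cfsg.Agent.H809.SelfCentUni
import Cfsg.Agent.S0280
import Cfsg.Agent.S2365
import Cfsg.Agent.FastGrp
import Cfsg.Agent.Prune
set_option linter.all false

section
prune_inst 0x7f00000000000000000000000000000000000000000000000000000000000000000000000000000000000000000000000000000000000000000000000000000000000000000000000000000000000000003fffffffffffffffffffffffffffbeffbdffffffff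

-- part: H251/Small/Base
section
set_option linter.all false
open scoped Cfsg.Agent.FastGrp

/-!
# Small unitary groups: invariants of elements (helper251)

`aut_mat`: the matrices of `x` and `φ x`, `φ` an automorphism of `PSU_n(q)`.
`conj_mat`: conjugate elements. Traces.
-/

set_option autoImplicit false

namespace Cfsg.Agent.H251.Small

open Cfsg Matrix
open Cfsg.Agent.LieClassical.HermBasic Cfsg.Agent.LieClassical.HermSiegel Cfsg.Agent.LieClassical.SUBasic
open Cfsg.Agent.ClassicalGeometry.PSUAutBasic Cfsg.Agent.ClassicalGeometry.PSUAutCount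

variable {F : Type*} [Field F] [Fintype F] {n q : ℕ}

theorem mat_pr (hF : Fintype.card F = q ^ 2) (hn : 3 ≤ n) {x y : SU n F q} (h : pr n F q x = pr n F q y) :
    ∃ c : F, c ^ n = 1 ∧ c ^ (q + 1) = 1 ∧ mat y = c • mat x := by
  obtain ⟨z, hz, rfl⟩ := exists_center_mul h
  obtain ⟨c, hcn, hcq, rfl⟩ := (mem_center_SU_iff hF hn z).1 hz
  refine ⟨c, hcn, hcq, ?_⟩
  rw [mat_mul, mat_def (suScalar q c hcn hcq), coe_suScalar]
  rw [← Matrix.smul_one_eq_diagonal, Matrix.mul_smul, Matrix.mul_one]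

/-- the matrices of `x` and `φ x`. -/
theorem aut_mat (hF : Fintype.card F = q ^ 2) (hn : 3 ≤ n) (h32 : ¬ (n = 3 ∧ q = 2)) (φ : MulAut (PSU n F q))
    {x y : SU n F q} (h : φ (pr n F q x) = pr n F q y) :
    ∃ (A B : Matrix (Fin n) (Fin n) F) (ρ : F ≃+* F) (c : F), A * B = 1 ∧ c ^ n = 1 ∧ c ^ (q + 1) = 1 ∧
      mat y = c • (A * (mat x).map ρ * B) := by
  obtain ⟨A, ρ, rfl⟩ := ClassicalGeometry.PSUAutMain.exists_toAut hF hn h32 φ
  change pr n F q (semiConj A ρ x) = pr n F q y at h
  obtain ⟨c, h1, h2, h3⟩ := mat_pr hF hn h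
  exact ⟨gm A, gm A⁻¹, ρ, c, gm_mul_inv A, h1, h2, h3⟩

theorem conj_mat (hF : Fintype.card F = q ^ 2) (hn : 3 ≤ n) {x y : SU n F q}
    (h : IsConj (pr n F q x) (pr n F q y)) :
    ∃ (A B : Matrix (Fin n) (Fin n) F) (c : F), A * B = 1 ∧ c ^ n = 1 ∧ c ^ (q + 1) = 1 ∧
      mat y = c • (A * mat x * B) := by
  obtain ⟨g, hg⟩ := isConj_iff.1 h
  obtain ⟨g, rfl⟩ := pr_surjective g
  rw [← map_mul, ← map_inv, ← map_mul] at hg
  obtain ⟨c, h1, h2, h3⟩ := mat_pr hF hn hg
  refine ⟨mat g, mat g⁻¹, c, ?_, h1, h2, ?_⟩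
  · rw [← mat_mul, mul_inv_cancel, mat_one]
  · rw [h3, mat_mul, mat_mul]

theorem trace_conj {A B M : Matrix (Fin n) (Fin n) F} (h : A * B = 1) : (A * M * B).trace = M.trace := by
  rw [Matrix.trace_mul_cycle, _root_.mul_eq_one_comm.1 h, Matrix.one_mul]

theorem conj_trace (hF : Fintype.card F = q ^ 2) (hn : 3 ≤ n) {x y : SU n F q}
    (h : IsConj (pr n F q x) (pr n F q y)) :
    ∃ c : F, c ^ n = 1 ∧ c ^ (q + 1) = 1 ∧ (mat y).trace = c * (mat x).trace := by
  obtain ⟨A, B, c, h1, h2, h3, h4⟩ := conj_mat hF hn h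
  exact ⟨c, h2, h3, by rw [h4, Matrix.trace_smul, trace_conj h1, smul_eq_mul]⟩

theorem aut_trace (hF : Fintype.card F = q ^ 2) (hn : 3 ≤ n) (h32 : ¬ (n = 3 ∧ q = 2)) (φ : MulAut (PSU n F q))
    {x y : SU n F q} (h : φ (pr n F q x) = pr n F q y) : (mat x).trace = 0 ↔ (mat y).trace = 0 := by
  obtain ⟨A, B, ρ, c, h1, h2, h3, h4⟩ := aut_mat hF hn h32 φ h
  have hc : c ≠ 0 := by
    rintro rfl
    rw [zero_pow (Nat.succ_ne_zero q)] at h3
    exact zero_ne_one h3
  have h5 : ((mat x).map ρ).trace = ρ (mat x).trace := by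
    simp [Matrix.trace, map_sum]
  rw [h4, Matrix.trace_smul, trace_conj h1, smul_eq_mul, h5, mul_eq_zero, or_iff_right hc,
    EmbeddingLike.map_eq_zero_iff]

end Cfsg.Agent.H251.Small
end

-- part: H251/Small/U5
section
set_option linter.all false
open scoped Cfsg.Agent.FastGrp

-- part: H251/Small/Real3
section
/-!
# Elements of order three are real (helper251)

If a Sylow `3`-subgroup of `G` has order dividing `9` and `G` has no normal subgroup of index `3`, then every element
of order `3` of `G` is conjugate to its inverse.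
-/

set_option autoImplicit false

namespace Cfsg.Agent.H251.Small

open Subgroup

section Fixed

variable {G : Type*} [Group G] [Finite G] {p : ℕ} [Fact p.Prime]

open scoped IsMulCommutative in
/-- an element of an abelian Sylow subgroup centralised by its normaliser is trivial if there is no normal subgroup
of index `p`. -/
theorem eq_one_of_fixed (P : Sylow p G) [IsMulCommutative P] (hno : ∀ N : Subgroup G, N.Normal → N.index ≠ p)
    {z : G} (hz : z ∈ P) (hfix : ∀ n ∈ normalizer ((P : Subgroup G) : Set G), n * z * n⁻¹ = z) : z = 1 := by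
  have hp : p.Prime := Fact.out
  let V : G →* (P : Subgroup G) := MonoidHom.transfer (MonoidHom.id (P : Subgroup G))
  have key : ∀ (k : ℕ) (g₀ : G), g₀⁻¹ * z ^ k * g₀ ∈ (P : Subgroup G) → g₀⁻¹ * z ^ k * g₀ = z ^ k := by
    intro k g₀ h
    obtain ⟨n, hn, h1⟩ := P.conj_eq_normalizer_conj_of_mem (z ^ k) g₀ (P.pow_mem hz k) h
    rw [h1]
    have h2 : ∀ j : ℕ, n * z ^ j * n⁻¹ = z ^ j := by
      intro j
      rw [← conj_pow, hfix n hn]
    calc n⁻¹ * z ^ k * n = n⁻¹ * (n * z ^ k * n⁻¹) * n := by rw [h2]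
      _ = z ^ k := by group
  have hV : V z = ⟨z ^ (P : Subgroup G).index, MonoidHom.transfer_eq_pow_aux z key⟩ :=
    MonoidHom.transfer_eq_pow _ z key
  by_cases hr : V.range = ⊥
  · have h1 : V z = 1 := by
      have : V z ∈ V.range := ⟨z, rfl⟩
      rw [hr] at this
      exact this
    rw [hV] at h1
    have h2 : z ^ (P : Subgroup G).index = 1 := congrArg Subtype.val h1
    have h3 : orderOf z ∣ (P : Subgroup G).index := orderOf_dvd_of_pow_eq_one h2
    obtain ⟨k, hk⟩ := (IsPGroup.iff_orderOf.1 P.2) ⟨z, hz⟩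
    rw [Subgroup.orderOf_mk] at hk
    rw [hk] at h3
    have h4 : k = 0 := by
      by_contra hk0
      exact P.not_dvd_index ((dvd_pow_self p hk0).trans h3)
    rw [h4, pow_zero] at hk
    exact orderOf_eq_one_iff.1 hk
  · exfalso
    have hI : IsPGroup p V.range := by
      intro y
      obtain ⟨k, hk⟩ := P.2 (y : (P : Subgroup G))
      exact ⟨k, Subtype.ext (by simpa only [_root_.SubmonoidClass.coe_pow, _root_.OneMemClass.coe_one] using hk)⟩
    obtain ⟨k, hk⟩ := IsPGroup.iff_card.1 hI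
    have hk0 : k ≠ 0 := by
      rintro rfl
      rw [pow_zero] at hk
      exact hr (Subgroup.card_eq_one.1 hk)
    obtain ⟨j, rfl⟩ := Nat.exists_eq_succ_of_ne_zero hk0
    obtain ⟨K, hK⟩ := Sylow.exists_subgroup_card_pow_prime (G := V.range) p (n := j)
      (by rw [hk]; exact pow_dvd_pow p (Nat.le_succ j))
    have hKi : K.index = p := by
      have h1 := K.card_mul_index
      rw [hK, hk, pow_succ] at h1
      exact Nat.eq_of_mul_eq_mul_left (pow_pos hp.pos j) h1
    refine hno (K.comap V.rangeRestrict) ?_ ?_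
    · refine ⟨fun x hx g => ?_⟩
      rw [Subgroup.mem_comap] at hx ⊢
      have h2 : V.rangeRestrict (g * x * g⁻¹) = V.rangeRestrict x := by
        apply Subtype.ext
        simp only [MonoidHom.coe_rangeRestrict]
        rw [map_mul, map_mul, map_inv, mul_comm (V g), mul_inv_cancel_right]
      rw [h2]
      exact hx
    · rw [Subgroup.index_comap_of_surjective K V.rangeRestrict_surjective, hKi]

end Fixed

section Four

variable {A : Type*} [CommGroup A]

theorem four_false {a b c d : A} (ha : a ^ 3 = 1) (hb : b ^ 3 = 1) (hc : c ^ 3 = 1) (hd : d ^ 3 = 1)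
    (ha1 : a ≠ 1) (hb1 : b ≠ 1) (hc1 : c ≠ 1) (hd1 : d ≠ 1) (hab : a ≠ b) (hcd : c ≠ d) (hab' : a ≠ b⁻¹)
    (hall : ∀ y : A, y ≠ 1 → y = a ∨ y = b ∨ y = c ∨ y = d ∨ y = a⁻¹ ∨ y = b⁻¹ ∨ y = c⁻¹ ∨ y = d⁻¹)
    (h : a * b * (c * d) = 1) : False := by
  have hinv : ∀ {y : A}, y ^ 3 = 1 → y * y = y⁻¹ := by
    intro y hy
    rw [eq_inv_iff_mul_eq_one, ← hy, pow_succ, pow_two]
  have h1 : a * b ≠ 1 := fun h1 => hab' (eq_inv_of_mul_eq_one_left h1)
  rcases hall _ h1 with h2 | h2 | h2 | h2 | h2 | h2 | h2 | h2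
  · exact hb1 (mul_eq_left.1 h2)
  · exact ha1 (mul_eq_right.1 h2)
  · rw [h2, ← mul_assoc, hinv hc, inv_mul_eq_one] at h
    exact hcd h
  · rw [h2, mul_comm c d, ← mul_assoc, hinv hd, inv_mul_eq_one] at h
    exact hcd h.symm
  · rw [← hinv ha] at h2
    exact hab (mul_left_cancel h2).symm
  · rw [← hinv hb] at h2
    exact hab (mul_right_cancel h2)
  · rw [h2, inv_mul_cancel_left] at h
    exact hd1 h
  · rw [h2, mul_comm c d, inv_mul_cancel_left] at h
    exact hc1 h

end Four

variable {G : Type*} [Group G] [Finite G]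

theorem comm_of_dvd_nine {P : Type*} [Group P] (h : Nat.card P ∣ 9) : IsMulCommutative P := by
  have h3 : Fact (Nat.Prime 3) := ⟨Nat.prime_three⟩
  have h1 : Nat.card P ∣ 3 ^ 2 := h
  obtain ⟨k, hk, h2⟩ := (Nat.dvd_prime_pow Nat.prime_three).1 h1
  have hfin : Finite P := Nat.finite_of_card_ne_zero (by rw [h2]; positivity)
  interval_cases k
  · rw [pow_zero] at h2
    have : Subsingleton P := (Nat.card_eq_one_iff_unique.1 h2).1
    exact ⟨⟨fun a b => Subsingleton.elim _ _⟩⟩
  · rw [pow_one] at h2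
    have := isCyclic_of_prime_card h2
    exact ⟨⟨fun a b => (IsCyclic.commGroup (α := P)).mul_comm a b⟩⟩
  · exact IsPGroup.isMulCommutative_of_card_eq_prime_sq h2

/-- a finite group `E` of automorphisms of order prime to `3` of a group `A` of order dividing `9` without fixed
points inverts every element of order `3`. -/
theorem exists_inv_of_aut {A : Type*} [CommGroup A] [Finite A] (hA : Nat.card A ∣ 9) (E : Subgroup (MulAut A))
    (h3 : ¬ 3 ∣ Nat.card E) (hfix : ∀ z : A, (∀ e ∈ E, e z = z) → z = 1) {x : A} (hx : orderOf x = 3) :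
    ∃ e ∈ E, e x = x⁻¹ := by
  classical
  have : Fintype A := Fintype.ofFinite A
  have hE : Finite E := inferInstance
  set O : Finset A := Finset.univ.filter fun y => ∃ e ∈ E, e x = y with hO
  have hmem : ∀ y, y ∈ O ↔ ∃ e ∈ E, e x = y := by
    intro y
    rw [hO, Finset.mem_filter]
    exact ⟨fun h => h.2, fun h => ⟨Finset.mem_univ _, h⟩⟩
  have hxO : x ∈ O := (hmem x).2 ⟨1, E.one_mem, rfl⟩
  have hinvO : ∀ e ∈ E, ∀ y ∈ O, e y ∈ O := by
    rintro e he y hy
    obtain ⟨f, hf, rfl⟩ := (hmem y).1 hy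
    exact (hmem _).2 ⟨e * f, E.mul_mem he hf, rfl⟩
  have hord : ∀ y ∈ O, orderOf y = 3 := by
    intro y hy
    obtain ⟨e, -, rfl⟩ := (hmem y).1 hy
    rw [← hx]
    exact orderOf_injective (e : A ≃* A).toMonoidHom (e : A ≃* A).injective x
  have hcube : ∀ y ∈ O, y ^ 3 = 1 := fun y hy => by rw [← hord y hy, pow_orderOf_eq_one]
  have hne : ∀ y ∈ O, y ≠ 1 := by
    rintro y hy rfl
    have := hord 1 hy
    rw [orderOf_one] at this
    omega
  by_contra hcon
  push Not at hcon
  have hanti : ∀ y ∈ O, y⁻¹ ∉ O := by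
    intro y hy hy'
    obtain ⟨e, he, rfl⟩ := (hmem y).1 hy
    have h1 := hinvO e⁻¹ (E.inv_mem he) _ hy'
    rw [← map_inv, MulAut.inv_apply_self] at h1
    obtain ⟨f, hf, h2⟩ := (hmem _).1 h1
    exact hcon f hf h2
  -- the product of the orbit
  have hprod : ∏ y ∈ O, y = 1 := by
    apply hfix
    intro e he
    rw [map_prod]
    refine Finset.prod_bij (fun y _ => e y) (fun y hy => hinvO e he y hy) (fun a _ b _ h => e.injective h) ?_
      (fun y _ => rfl)
    intro y hy
    refine ⟨e⁻¹ y, hinvO _ (E.inv_mem he) y hy, ?_⟩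
    exact MulAut.apply_inv_self A e y
  -- its length
  have hlen : ¬ 3 ∣ O.card := by
    have h1 : (MulAction.orbit E x : Set A) = (O : Set A) := by
      ext y
      rw [Finset.mem_coe, hmem]
      constructor
      · rintro ⟨e, rfl⟩
        exact ⟨e, e.2, rfl⟩
      · rintro ⟨e, he, rfl⟩
        exact ⟨⟨e, he⟩, rfl⟩
    have : Fintype E := Fintype.ofFinite E
    have h2 : Nat.card (MulAction.orbit E x) ∣ Nat.card E := by
      rw [Nat.card_congr (MulAction.orbitEquivQuotientStabilizer E x)]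
      exact Subgroup.index_dvd_card _
    rw [h1] at h2
    have h3' : Nat.card (O : Set A) = O.card := by
      rw [Nat.card_eq_fintype_card]
      simp only [_root_.SetLike.coe_sort_coe, _root_.Fintype.card_coe]
    rw [h3'] at h2
    exact fun h => h3 (h.trans h2)
  have hAle : Fintype.card A ≤ 9 := by
    rw [← Nat.card_eq_fintype_card]
    exact Nat.le_of_dvd (by norm_num) hA
  set I : Finset A := O.image fun y => y⁻¹ with hI
  have hIc : I.card = O.card := Finset.card_image_of_injective _ inv_injective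
  have hdis : Disjoint O I := by
    rw [Finset.disjoint_left]
    intro y hy hy'
    obtain ⟨z, hz, rfl⟩ := Finset.mem_image.1 hy'
    exact hanti z hz hy
  have hsub : (insert 1 (O ∪ I)).card = 1 + 2 * O.card := by
    rw [Finset.card_insert_of_notMem, Finset.card_union_of_disjoint hdis, hIc]
    · ring
    · rw [Finset.mem_union, not_or]
      refine ⟨fun h => hne 1 h rfl, fun h => ?_⟩
      obtain ⟨z, hz, hz1⟩ := Finset.mem_image.1 h
      exact hne z hz (inv_eq_one.1 hz1)
  have hle : 1 + 2 * O.card ≤ 9 := by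
    rw [← hsub]
    exact (Finset.card_le_univ _).trans hAle
  have hpos : 0 < O.card := Finset.card_pos.2 ⟨x, hxO⟩
  obtain h1 | h1 | h1 : O.card = 1 ∨ O.card = 2 ∨ O.card = 4 := by omega
  · obtain ⟨y, hy⟩ := Finset.card_eq_one.1 h1
    rw [hy, Finset.prod_singleton] at hprod
    exact hne y (by rw [hy]; exact Finset.mem_singleton_self y) hprod
  · obtain ⟨a, b, hab, hO2⟩ := Finset.card_eq_two.1 h1
    have ha : a ∈ O := by rw [hO2]; simp
    have hb : b ∈ O := by rw [hO2]; simp
    rw [hO2, Finset.prod_pair hab] at hprod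
    rw [eq_inv_of_mul_eq_one_left hprod] at ha
    exact hanti b hb ha
  · have hall : insert 1 (O ∪ I) = Finset.univ := by
      have h0 := Finset.card_le_univ (insert 1 (O ∪ I))
      rw [hsub] at h0
      rw [← Finset.card_eq_iff_eq_univ, hsub]
      omega
    obtain ⟨a, ha⟩ := Finset.card_pos.1 hpos
    have h2 : (O.erase a).card = 3 := by rw [Finset.card_erase_of_mem ha]; omega
    obtain ⟨b, c, d, hbc, hbd, hcd, h4⟩ := Finset.card_eq_three.1 h2
    have hmem' : ∀ y, y ∈ O ↔ y = a ∨ y = b ∨ y = c ∨ y = d := by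
      intro y
      rw [← Finset.insert_erase ha, h4]
      simp
    have hb : b ∈ O.erase a := by rw [h4]; simp
    have hc : c ∈ O.erase a := by rw [h4]; simp
    have hd : d ∈ O.erase a := by rw [h4]; simp
    rw [Finset.mem_erase] at hb hc hd
    rw [← Finset.mul_prod_erase O (fun y => y) ha, h4, Finset.prod_insert (by simp [hbc, hbd]),
      Finset.prod_pair hcd] at hprod
    refine four_false (hcube a ha) (hcube b hb.2) (hcube c hc.2) (hcube d hd.2) (hne a ha) (hne b hb.2)
      (hne c hc.2) (hne d hd.2) hb.1.symm hcd ?_ ?_ (by rw [mul_assoc]; exact hprod)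
    · rintro rfl
      exact hanti b hb.2 ha
    · intro y hy
      have h5 : y ∈ insert 1 (O ∪ I) := by rw [hall]; exact Finset.mem_univ y
      rw [Finset.mem_insert, Finset.mem_union] at h5
      rcases h5 with h5 | h5 | h5
      · exact absurd h5 hy
      · rcases (hmem' y).1 h5 with h | h | h | h
        · exact Or.inl h
        · exact Or.inr (Or.inl h)
        · exact Or.inr (Or.inr (Or.inl h))
        · exact Or.inr (Or.inr (Or.inr (Or.inl h)))
      · obtain ⟨z, hz, rfl⟩ := Finset.mem_image.1 h5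
        rcases (hmem' z).1 hz with h | h | h | h <;> subst h <;> simp

open scoped IsMulCommutative in
/-- **Elements of order `3` are real.** -/
theorem real_of_nine (P : Sylow 3 G) (h9 : Nat.card P ∣ 9) (hno : ∀ N : Subgroup G, N.Normal → N.index ≠ 3)
    {x : G} (hx : orderOf x = 3) : ∃ g : G, g * x * g⁻¹ = x⁻¹ := by
  have h3 : Fact (Nat.Prime 3) := ⟨Nat.prime_three⟩
  have hcomm : IsMulCommutative P := comm_of_dvd_nine h9
  -- we may assume that `x` is in `P`
  suffices key : ∀ y : G, orderOf y = 3 → y ∈ (P : Subgroup G) → ∃ g : G, g * y * g⁻¹ = y⁻¹ by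
    have h1 : IsPGroup 3 (zpowers x) := IsPGroup.of_card (n := 1) (by rw [Nat.card_zpowers, hx, pow_one])
    obtain ⟨Q, hQ⟩ := h1.exists_le_sylow
    obtain ⟨g, hg⟩ := MulAction.exists_smul_eq G Q P
    have h2 : g * x * g⁻¹ ∈ (P : Subgroup G) := by
      rw [← hg, Sylow.coe_subgroup_smul, Subgroup.mem_pointwise_smul_iff_inv_smul_mem, ← map_inv,
        MulAut.smul_def, MulAut.conj_apply, inv_inv]
      have : g⁻¹ * (g * x * g⁻¹) * g = x := by group
      rw [this]
      exact hQ (mem_zpowers x)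
    have h4 : orderOf (g * x * g⁻¹) = 3 := by
      rw [← hx, show g * x * g⁻¹ = MulAut.conj g x from rfl]
      exact orderOf_injective (MulAut.conj g).toMonoidHom (MulAut.conj g).injective x
    obtain ⟨k, hk⟩ := key _ h4 h2
    refine ⟨g⁻¹ * k * g, ?_⟩
    calc g⁻¹ * k * g * x * (g⁻¹ * k * g)⁻¹ = g⁻¹ * (k * (g * x * g⁻¹) * k⁻¹) * g := by group
      _ = x⁻¹ := by rw [hk]; group
  intro y hy hyP
  set E : Subgroup (MulAut (P : Subgroup G)) := (Subgroup.normalizerMonoidHom (P : Subgroup G)).range with hE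
  have hE3 : ¬ 3 ∣ Nat.card E := by
    intro hd
    have h1 : Nat.card E = (Subgroup.normalizerMonoidHom (P : Subgroup G)).ker.index := by
      rw [Subgroup.index_ker]
    rw [h1] at hd
    have h2 : (P : Subgroup G).subgroupOf (normalizer ((P : Subgroup G) : Set G)) ≤
        (Subgroup.normalizerMonoidHom (P : Subgroup G)).ker := by
      intro n hn
      rw [MonoidHom.mem_ker]
      ext z
      rw [Subgroup.mem_subgroupOf] at hn
      have h5 : (n : G) * (z : G) = (z : G) * (n : G) :=
        congrArg Subtype.val (hcomm.is_comm.comm (⟨n, hn⟩ : P) z)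
      change (n : G) * (z : G) * (n : G)⁻¹ = z
      rw [h5, mul_inv_cancel_right]
    have h5 := hd.trans (Subgroup.index_dvd_of_le h2)
    have h6 : ((P : Subgroup G).subgroupOf (normalizer ((P : Subgroup G) : Set G))).index ∣
        (P : Subgroup G).index := by
      have := Subgroup.relIndex_mul_index (H := (P : Subgroup G)) (K := normalizer ((P : Subgroup G) : Set G))
        Subgroup.le_normalizer
      exact Dvd.intro _ this
    exact P.not_dvd_index (h5.trans h6)
  have hfx : ∀ z : (P : Subgroup G), (∀ e ∈ E, e z = z) → z = 1 := by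
    intro z hz
    apply Subtype.ext
    refine eq_one_of_fixed P hno z.2 ?_
    intro n hn
    exact congrArg Subtype.val (hz _ ⟨⟨n, hn⟩, rfl⟩)
  obtain ⟨e, he, h1⟩ := exists_inv_of_aut (A := (P : Subgroup G)) h9 E hE3 hfx (x := ⟨y, hyP⟩)
    (by rw [Subgroup.orderOf_mk]; exact hy)
  obtain ⟨n, rfl⟩ := he
  exact ⟨n, congrArg Subtype.val h1⟩

end Cfsg.Agent.H251.Small
end

-- part: H251/Small/U5
section
/-!
# The maximal subgroups of `U₅(2)` miss a class of elements of prime order (helper251)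
-/

set_option autoImplicit false

namespace Cfsg.Agent.H251.Small

open Subgroup Cfsg Matrix Cfsg.Agent.H278.El Cfsg.Agent.H396 Cfsg.Agent.OrdDiv
open Cfsg.Agent.LieClassical.HermSiegel Cfsg.Agent.LieClassical.SUBasic
open Cfsg.Agent.ClassicalGeometry.PSUAutBasic

section Ten

open Cfsg.Agent.H447.MElems

def l10 : List ℕ := [12, 0, 16, 4, 1, 21, 8, 20, 6, 2, 15, 5, 18, 3, 7, 10, 13, 23, 9, 14, 22, 19, 17, 11]

theorem ten_M12 : ∃ g : Spor.M12, orderOf g = 10 := by
  obtain ⟨g, hg, hgt⟩ := exists_elem l10 (by decide +kernel)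
  refine ⟨⟨g, mem_M12 hg hgt (by decide +kernel)⟩, ?_⟩
  rw [Subgroup.orderOf_mk]
  have hit : ∀ (m : ℕ) (q : GolayPt), Golay.Orbit.idx ((g ^ m) q) = (app l10)^[m] (Golay.Orbit.idx q) := by
    intro m
    induction m with
    | zero => intro q; rfl
    | succ m ih =>
      intro q
      rw [pow_succ, Equiv.Perm.mul_apply, ih, hgt, Function.iterate_succ_apply]
  have hne : ∀ m, (∃ i < 24, (app l10)^[m] i ≠ i) → g ^ m ≠ 1 := by
    rintro m ⟨i, hi, h⟩ h1
    apply h
    have h3 := hit m (Golay.Orbit.pt i)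
    rw [h1, Golay.Orbit.idx_pt i hi] at h3
    rw [← h3]
    exact Golay.Orbit.idx_pt i hi
  refine orderOf_eq_of_pow_and_pow_div_prime (by norm_num) ?_ ?_
  · apply ext_idx
    intro q
    have h1 : ∀ i < 24, (app l10)^[10] i = i := by decide +kernel
    rw [hit, h1 _ (Golay.Orbit.idx_lt q)]
    rfl
  · intro p hp hd
    have h2 : p = 2 ∨ p = 5 := by
      have h3 : p ∣ 2 * 5 := hd
      rcases hp.dvd_mul.1 h3 with h | h
      · exact Or.inl ((Nat.prime_dvd_prime_iff_eq hp Nat.prime_two).1 h)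
      · exact Or.inr ((Nat.prime_dvd_prime_iff_eq hp (by norm_num)).1 h)
    rcases h2 with rfl | rfl
    · exact hne 5 (by decide +kernel)
    · exact hne 2 (by decide +kernel)

end Ten

variable {F : Type} [Field F] [Fintype F]

/-- a primitive cube root of unity in a field of order `4`. -/
theorem exists_omega {F : Type*} [Field F] [Fintype F] (hF : Fintype.card F = 2 ^ 2) :
    ∃ w : F, w ^ 3 = 1 ∧ w ≠ 1 ∧ w ≠ 0 ∧ w * w = w + 1 ∧ (2 : F) = 0 := by
  classical
  have h2 : (2 : F) = 0 := by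
    have h := FiniteField.cast_card_eq_zero F
    rw [hF] at h
    have : ((2 : F)) * 2 = 0 := by
      have h' : ((2 ^ 2 : ℕ) : F) = 2 * 2 := by norm_num
      rw [← h', h]
    rcases mul_eq_zero.1 this with h | h <;> exact h
  obtain ⟨w, hw⟩ : ∃ w : F, w ∉ ({0, 1} : Finset F) := by
    by_contra hcon
    push Not at hcon
    have h1 : (Finset.univ : Finset F).card ≤ ({0, 1} : Finset F).card :=
      Finset.card_le_card fun k _ => hcon k
    have h3 : ({0, 1} : Finset F).card ≤ 2 := Finset.card_le_two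
    rw [Finset.card_univ, hF] at h1
    omega
  simp only [Finset.mem_insert, Finset.mem_singleton, not_or] at hw
  have h3 : w ^ 3 = 1 := by
    have := FiniteField.pow_card_sub_one_eq_one w hw.1
    rwa [hF] at this
  refine ⟨w, h3, hw.2, hw.1, ?_, h2⟩
  have h4 : (w - 1) * (w * w + w + 1) = 0 := by
    have : (w - 1) * (w * w + w + 1) = w ^ 3 - 1 := by ring
    rw [this, h3, sub_self]
  rcases mul_eq_zero.1 h4 with h5 | h5
  · exact absurd (sub_eq_zero.1 h5) hw.2
  · have h6 : w * w = w + 1 + (w * w + w + 1) - (w + 1) * 2 := by ring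
    rw [h6, h5, h2]
    ring

theorem card_u5 (hF : Fintype.card F = 2 ^ 2) : Nat.card (PSU 5 F 2) = 13685760 := by
  have h := S0280.result hF 5 (by norm_num)
  rw [show Nat.gcd 5 (2 + 1) = 1 by decide] at h
  simp only [Finset.prod_range_succ, Finset.prod_range_zero] at h
  norm_num only [Nat.even_iff, _root_.one_mul, _root_.ite_true, _root_.ite_false] at h
  omega

theorem selfcent_u5 (hF : Fintype.card F = 2 ^ 2) :
    ∃ R : Subgroup (PSU 5 F 2), Nat.card R = 11 ∧ centralizer (R : Set (PSU 5 F 2)) = R :=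
  Cfsg.Agent.H809.SelfCent.psu_irred hF (by norm_num) (by decide) (by norm_num) (by norm_num) (by norm_num)
    (by norm_num) (by norm_num) (k := 341) (by norm_num) (by norm_num) (by decide) (by norm_num) (by norm_num)

theorem card_su3 (hF : Fintype.card F = 2 ^ 2) : Nat.card (SU 3 F 2) = 216 := by
  have h := S0278.result hF 3 (by norm_num)
  simp only [Finset.prod_range_succ, Finset.prod_range_zero] at h
  norm_num only [Nat.even_iff, _root_.ite_true, _root_.one_mul, _root_.ite_false] at h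
  omega

theorem charTwo (hF : Fintype.card F = 2 ^ 2) : CharP F 2 := by
  obtain ⟨-, -, -, -, -, h2⟩ := exists_omega hF
  exact CharTwo.of_one_ne_zero_of_two_eq_zero one_ne_zero h2

theorem no_ten (hF : Fintype.card F = 2 ^ 2) (g : PSU 5 F 2) : orderOf g ≠ 10 := by
  intro hg
  have hc := charTwo hF
  have h2 : Fact (Nat.Prime 2) := ⟨Nat.prime_two⟩
  have h1 : orderOf (g ^ 5) = 2 := by rw [orderOf_pow' _ (by norm_num), hg]; rfl
  have h3 : orderOf (g ^ 2) = 5 := by rw [orderOf_pow' _ (by norm_num), hg]; rfl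
  have h4 := S2365.result 2 5 2 (by norm_num) hF (g ^ 5) (g ^ 2) h1 ((Commute.refl g).pow_pow 5 2)
  have h5 : 5 ∈ (orderOf (g ^ 2)).primeFactors := by
    rw [h3, Nat.Prime.primeFactors (by norm_num)]
    simp
  have h6 := Nat.dvd_of_mem_primeFactors (h4 h5)
  rw [show 5 - 2 = 3 from rfl, card_su3 hF] at h6
  norm_num at h6

theorem der_of_real {T : Type*} [Group T] {M : Subgroup T} {p : ℕ} (hp : p.Prime) {x : T} (hx : orderOf x = p)
    (hx' : ∀ g : T, g * x * g⁻¹ ≠ x⁻¹)
    (hM : ∀ y : M, orderOf y = p → ∃ g : M, g * y * g⁻¹ = y⁻¹) : Der T M := by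
  refine ⟨x, by rw [hx]; exact hp, fun φ hm => ?_⟩
  have h1 : orderOf (⟨φ x, hm⟩ : M) = p := by
    rw [Subgroup.orderOf_mk, ← hx]
    exact orderOf_injective φ.toMonoidHom φ.injective x
  obtain ⟨g, hg⟩ := hM _ h1
  have h2 : (g : T) * φ x * (g : T)⁻¹ = (φ x)⁻¹ := congrArg Subtype.val hg
  apply hx' (φ.symm g)
  apply φ.injective
  rw [map_mul, map_mul, map_inv, map_inv, MulEquiv.apply_symm_apply]
  exact h2

theorem no_index_three {M : Type*} [Group M] [Finite M] (hs : IsSimpleGroup M) (h3 : Nat.card M ≠ 3)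
    (N : Subgroup M) (hN : N.Normal) : N.index ≠ 3 := by
  rcases hs.eq_bot_or_eq_top_of_normal N hN with rfl | rfl
  · rw [Subgroup.index_bot]
    exact h3
  · rw [Subgroup.index_top]
    norm_num

/-- simple groups of order prime to `27` have real elements of order `3`. -/
theorem real_of_simple {M : Type*} [Group M] [Finite M] (hs : IsSimpleGroup M) (h3 : Nat.card M ≠ 3)
    (h27 : ¬ 27 ∣ Nat.card M) {x : M} (hx : orderOf x = 3) : ∃ g : M, g * x * g⁻¹ = x⁻¹ := by
  have hf : Fact (Nat.Prime 3) := ⟨Nat.prime_three⟩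
  let P : Sylow 3 M := default
  refine real_of_nine P ?_ (no_index_three hs h3) hx
  obtain ⟨k, hk⟩ := IsPGroup.iff_card.1 P.2
  have h1 : Nat.card P ∣ Nat.card M := Subgroup.card_subgroup_dvd_card _
  rw [hk] at h1 ⊢
  have h2 : k ≤ 2 := by
    by_contra hcon
    push Not at hcon
    exact h27 ((pow_dvd_pow 3 hcon).trans h1)
  exact pow_dvd_pow 3 h2

/-- an element of `PSU_n(q)` is not real if its trace and the trace of its inverse differ by no scalar. -/
theorem not_real_of_trace {F : Type*} [Field F] [Fintype F] {n q : ℕ} (hF : Fintype.card F = q ^ 2) (hn : 3 ≤ n)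
    (x : SU n F q) (h : ∀ c : F, c ^ n = 1 → c ^ (q + 1) = 1 → (mat x⁻¹).trace ≠ c * (mat x).trace) :
    ∀ g : PSU n F q, g * pr n F q x * g⁻¹ ≠ (pr n F q x)⁻¹ := by
  intro g hg
  rw [← map_inv] at hg
  obtain ⟨c, h1, h2, h3⟩ := conj_trace hF hn (isConj_iff.2 ⟨g, hg⟩)
  exact h c h1 h2 h3

theorem mat_suDiag {F : Type*} [Field F] {n q : ℕ} (a : Fin n → F) (hd : ∏ i, a i = 1)
    (ha : ∀ i, a i ^ (q + 1) = 1) : mat (suDiag q a hd ha) = Matrix.diagonal a := rfl

theorem suDiag_pow {F : Type*} [Field F] {n q : ℕ} (a : Fin n → F) (hd : ∏ i, a i = 1)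
    (ha : ∀ i, a i ^ (q + 1) = 1) {k : ℕ} (hk : ∀ i, a i ^ k = 1) : suDiag q a hd ha ^ k = 1 := by
  apply Subtype.ext
  apply Subtype.ext
  change ((suDiag q a hd ha ^ k : SU n F q) : Matrix.SpecialLinearGroup (Fin n) F).1 = 1
  rw [SubmonoidClass.coe_pow]
  change (((suDiag q a hd ha : SU n F q) : Matrix.SpecialLinearGroup (Fin n) F) ^ k).1 = 1
  rw [Matrix.SpecialLinearGroup.coe_pow, coe_suDiag, Matrix.diagonal_pow]
  rw [show (a ^ k) = fun _ => 1 from funext fun i => hk i]
  exact Matrix.diagonal_one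

/-- the inverse of a diagonal element of order dividing `3` is its square. -/
theorem mat_inv_suDiag {F : Type*} [Field F] {n q : ℕ} (a : Fin n → F) (hd : ∏ i, a i = 1)
    (ha : ∀ i, a i ^ (q + 1) = 1) (h3 : ∀ i, a i ^ 3 = 1) :
    mat (suDiag q a hd ha)⁻¹ = Matrix.diagonal fun i => a i * a i := by
  have h1 : (suDiag q a hd ha)⁻¹ = suDiag q a hd ha * suDiag q a hd ha := by
    rw [inv_eq_iff_mul_eq_one, ← mul_assoc, ← suDiag_pow a hd ha h3, pow_succ, pow_two]
  rw [h1, mat_mul, mat_suDiag, Matrix.diagonal_mul_diagonal]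

theorem nonreal_u5 (hF : Fintype.card F = 2 ^ 2) :
    ∃ x : PSU 5 F 2, orderOf x = 3 ∧ ∀ g : PSU 5 F 2, g * x * g⁻¹ ≠ x⁻¹ := by
  obtain ⟨w, h3, h1, h0, hw, h2⟩ := exists_omega hF
  have hd : ∏ i, (![w, w, w, 1, 1] : Fin 5 → F) i = 1 := by
    simp only [Fin.prod_univ_five, _root_.Nat.succ_eq_add_one, _root_.Nat.reduceAdd, _root_.Fin.isValue, _root_.Matrix.cons_val_zero, _root_.Matrix.cons_val_one, _root_.Matrix.cons_val, _root_.mul_one]
    linear_combination h3
  have ha : ∀ i, (![w, w, w, 1, 1] : Fin 5 → F) i ^ (2 + 1) = 1 := by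
    intro i
    fin_cases i <;> simp [h3]
  refine ⟨pr 5 F 2 (suDiag 2 _ hd ha), ?_, not_real_of_trace hF (by norm_num) _ ?_⟩
  · have hf : Fact (Nat.Prime 3) := ⟨Nat.prime_three⟩
    refine orderOf_eq_prime ?_ ?_
    · rw [← map_pow, suDiag_pow _ hd ha ha, map_one]
    · intro h
      obtain ⟨c, -, -, h4⟩ := mat_pr hF (by norm_num) (h.trans (map_one (pr 5 F 2)).symm)
      rw [mat_suDiag, mat_one] at h4
      have h5 := congrFun (congrFun h4 0) 0
      have h6 := congrFun (congrFun h4 3) 3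
      simp at h5 h6
      rw [← h6, one_mul] at h5
      exact h1 h5.symm
  · intro c hc5 hc3
    have hc : c = 1 := by
      have : c ^ 6 = 1 := by
        calc c ^ 6 = (c ^ (2 + 1)) ^ 2 := by ring
          _ = 1 := by rw [hc3, one_pow]
      calc c = c * c ^ 5 := by rw [hc5, mul_one]
        _ = c ^ 6 := by ring
        _ = 1 := this
    rw [hc, one_mul, mat_inv_suDiag _ hd ha ha, mat_suDiag, Matrix.trace_diagonal, Matrix.trace_diagonal]
    simp only [Fin.sum_univ_five]
    simp only [_root_.Fin.isValue, _root_.Matrix.cons_val_zero, _root_.Matrix.cons_val_one, _root_.Matrix.cons_val, _root_.mul_one, _root_.ne_eq, _root_.add_left_inj]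
    intro h
    apply one_ne_zero (α := F)
    linear_combination h - 3 * hw - h2

def tbl5 : List ℕ := [60, 360, 660, 25920, 13685760, 7920, 95040]

/-- **Every proper subgroup of `U₅(2)` misses a class (up to automorphisms) of elements of prime order.** -/
theorem u5 (OT : OrderTable.{0}) (hS : ∀ (X : Type) [Group X] [Finite X] [IsSimpleGroup X], Cfsg.IsKnownSimple' X)
    (hF : Fintype.card F = 2 ^ 2) (M : Subgroup (PSU 5 F 2)) (hM : M ≠ ⊤) : Der (PSU 5 F 2) M := by
  have hcard := card_u5 hF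
  by_cases hall : ∀ r ∈ [2, 3, 5, 11], r ∣ Nat.card M
  swap
  · push Not at hall
    obtain ⟨r, hr, hrM⟩ := hall
    simp only [List.mem_cons, List.not_mem_nil, or_false] at hr
    refine der_of_prime (v := r) ?_ ?_ hrM
    · rcases hr with rfl | rfl | rfl | rfl <;> norm_num
    · rw [hcard]
      rcases hr with rfl | rfl | rfl | rfl <;> norm_num
  have hv : valid [(2, 10), (3, 5), (5, 1), (11, 1)] 13685760 = true := by decide +kernel
  have D : H970.StabNum.Data (PSU 5 F 2) [(11, 1, 5)] [2, 3, 5] tbl5 := by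
    refine H970.TwoSpor.mk_data OT hS hcard hv (by decide +kernel) ?_ ?_ (by decide +kernel) ?_
    · intro x hx
      simp only [List.mem_cons, List.not_mem_nil, or_false] at hx
      subst hx
      norm_num
    · intro r hr
      simp only [List.mem_cons, List.not_mem_nil, or_false] at hr
      rcases hr with rfl | rfl | rfl <;> norm_num
    · intro x hx P hP
      simp only [List.mem_cons, List.not_mem_nil, or_false] at hx
      subst hx
      refine cent_norm (by norm_num) (by rw [hcard]; norm_num) (selfcent_u5 hF) ?_ P hP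
      intro m hm _ hmod
      rw [hcard] at hmod
      have h1 : m ∈ Nat.divisors 10 := Nat.mem_divisors.2 ⟨hm, by norm_num⟩
      rw [show Nat.divisors 10 = {1, 2, 5, 10} by decide] at h1
      simp only [Finset.mem_insert, Finset.mem_singleton] at h1
      rcases h1 with rfl | rfl | rfl | rfl
      · norm_num at hmod
      · norm_num at hmod
      · norm_num
      · norm_num at hmod
  have h1 := mem_surv D (by rw [hcard]; exact hv) M hall
  rw [show surv [(11, 1, 5)] [2, 3, 5] tbl5 [(2, 10), (3, 5), (5, 1), (11, 1)] [2, 3, 5, 11] =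
    [660, 7920, 95040, 13685760] by decide +kernel] at h1
  simp only [List.mem_cons, List.not_mem_nil, or_false] at h1
  obtain ⟨x, hx, hx'⟩ := nonreal_u5 hF
  rcases h1 with h1 | h1 | h1 | h1
  · obtain ⟨hs, -⟩ := simple_of D M (p := 11) (k := 1) (M := 5) (by simp) h1 (by norm_num) (by norm_num)
      (by decide +kernel)
    exact der_of_real (by norm_num) hx hx' fun y hy =>
      real_of_simple hs (by rw [h1]; norm_num) (by rw [h1]; norm_num) hy
  · obtain ⟨hs, -⟩ := simple_of D M (p := 11) (k := 1) (M := 5) (by simp) h1 (by norm_num) (by norm_num)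
      (by decide +kernel)
    exact der_of_real (by norm_num) hx hx' fun y hy =>
      real_of_simple hs (by rw [h1]; norm_num) (by rw [h1]; norm_num) hy
  · exfalso
    obtain ⟨hs, hna⟩ := simple_of D M (p := 11) (k := 1) (M := 5) (by simp) h1 (by norm_num) (by norm_num)
      (by decide +kernel)
    obtain ⟨g, hg, hr⟩ := exists_real_filter OT (hS M) hna (l := [(2, 6), (3, 3), (5, 1), (11, 1)]) (N := 95040)
      (by decide +kernel) (by rw [h1]) (fun o => Nat.beq o 95040) (by rw [h1]; rfl)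
    rw [show ((cands [(2, 6), (3, 3), (5, 1), (11, 1)] 95040).filter fun g => Nat.beq (ordN g) 95040) = [.m12] by
      decide +kernel] at hg
    rw [List.mem_singleton] at hg
    subst hg
    obtain ⟨e⟩ := hr
    obtain ⟨z, hz⟩ := ten_M12
    refine no_ten hF ((e.symm z : M) : PSU 5 F 2) ?_
    rw [Subgroup.orderOf_coe, MulEquiv.orderOf_eq, hz]
  · exact absurd (Subgroup.eq_top_of_card_eq M (by rw [h1, hcard])) hM

end Cfsg.Agent.H251.Small
end
end
end
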