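import Cfsg.Agent.H251.Small.U5
import Cfsg.Agent.H455.NoNine
import Cfsg.Agent.H809.SelfCentPSU
import Cfsg.Agent.H236.USeven
import Cfsg.Agent.H844.USeven
import Cfsg.Agent.H169.U4
import Cfsg.Agent.H574.PslThreeFour
import Cfsg.Agent.S0256
import Cfsg.Agent.H325.LocStruct
import Cfsg.Agent.H278.ElDefs
import Cfsg.Agent.H938.Sax.Base
import Cfsg.Agent.FastGrp
import Cfsg.Agent.Prune
set_option linter.all false

section
prune_inst 0x7f00000000000000000000000000000000000000000000000000000000000000000000000000000000000000000000000000000000000000000000000000000000000000000000000000000000000000003fffffffffffffffffffffffffffbeffbdffffffff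

-- part: H251/Small/U43
section
prune_inst 0xbfbdfffffbefffffff7e77aedffffdffbb7ffffffff9cbffe86bffafdf6b12c9c52b8d8feb32ff1fff629410f87b53fffffefffa6ffc7ffffdfff45ffbffdfedffbd08519e88b40fbc6ffff3f07f8e7f000000000000000000000000000000004200000000
set_option linter.all false
open scoped Cfsg.Agent.FastGrp

-- part: H251/Small/U6
section
/-!
# The maximal subgroups of `U₆(2)` miss a class of elements of prime order (helper251)
-/

set_option autoImplicit false

namespace Cfsg.Agent.H251.Small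

open Subgroup Cfsg Matrix Cfsg.Agent.H278.El Cfsg.Agent.H396 Cfsg.Agent.OrdDiv
open Cfsg.Agent.LieClassical.HermSiegel Cfsg.Agent.LieClassical.SUBasic
open Cfsg.Agent.ClassicalGeometry.PSUAutBasic

theorem der_of_two {T : Type*} [Group T] {M : Subgroup T} {p : ℕ} (hp : p.Prime) {x y : T} (hx : orderOf x = p)
    (hy : orderOf y = p) (hxy : ∀ φ : T ≃* T, φ x ≠ y)
    (hM : ∀ a b : M, orderOf a = p → orderOf b = p → IsConj a b) : Der T M := by
  by_contra hcon
  have h1 : ∀ z : T, orderOf z = p → ∃ φ : T ≃* T, φ z ∈ M := by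
    intro z hz
    by_contra h
    push Not at h
    exact hcon ⟨z, by rw [hz]; exact hp, h⟩
  obtain ⟨φ, hφ⟩ := h1 x hx
  obtain ⟨ψ, hψ⟩ := h1 y hy
  have hc := hM ⟨φ x, hφ⟩ ⟨ψ y, hψ⟩
    (by rw [Subgroup.orderOf_mk, ← hx]; exact orderOf_injective φ.toMonoidHom φ.injective x)
    (by rw [Subgroup.orderOf_mk, ← hy]; exact orderOf_injective ψ.toMonoidHom ψ.injective y)
  obtain ⟨m, hm⟩ := isConj_iff.1 hc
  have h2 : (m : T) * φ x * (m : T)⁻¹ = ψ y := congrArg Subtype.val hm
  refine hxy ((φ.trans (MulAut.conj (m : T))).trans ψ.symm) ?_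
  change ψ.symm ((m : T) * φ x * (m : T)⁻¹) = y
  rw [h2, MulEquiv.symm_apply_apply]

variable {F : Type} [Field F] [Fintype F]

theorem card_u6 (hF : Fintype.card F = 2 ^ 2) : Nat.card (PSU 6 F 2) = 9196830720 := by
  have h := S0280.result hF 6 (by norm_num)
  rw [show Nat.gcd 6 (2 + 1) = 3 by decide] at h
  simp only [Finset.prod_range_succ, Finset.prod_range_zero] at h
  norm_num only [Nat.even_iff, _root_.ite_true, _root_.one_mul, _root_.ite_false] at h
  omega

theorem selfcent_u6 (hF : Fintype.card F = 2 ^ 2) :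
    ∃ R : Subgroup (PSU 6 F 2), Nat.card R = 11 ∧ centralizer (R : Set (PSU 6 F 2)) = R :=
  Cfsg.Agent.H809.SelfCent.psu_selfcent 6 2 11 (by decide) F hF

theorem two_u6 (hF : Fintype.card F = 2 ^ 2) :
    ∃ x y : PSU 6 F 2, orderOf x = 3 ∧ orderOf y = 3 ∧ ∀ φ : PSU 6 F 2 ≃* PSU 6 F 2, φ x ≠ y := by
  obtain ⟨w, h3, h1, h0, hw, h2⟩ := exists_omega hF
  have hd : ∏ i, (![w, w * w, 1, 1, 1, 1] : Fin 6 → F) i = 1 := by
    simp only [Fin.prod_univ_six, _root_.Nat.succ_eq_add_one, _root_.Nat.reduceAdd, _root_.Fin.isValue, _root_.Matrix.cons_val_zero, _root_.Matrix.cons_val_one, _root_.Matrix.cons_val, _root_.mul_one]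
    linear_combination h3
  have ha : ∀ i, (![w, w * w, 1, 1, 1, 1] : Fin 6 → F) i ^ (2 + 1) = 1 := by
    intro i
    (revert i; simp only [h3, mul_pow, _root_.Fin.forall_fin_succ, _root_.Nat.succ_eq_add_one, Nat.reduceAdd, Fin.isValue, _root_.Matrix.cons_val_zero, _root_.Matrix.cons_val_succ, _root_.mul_one, _root_.one_pow, _root_.Matrix.cons_val_fin_one, _root_.implies_true, _root_.and_self])
  have hd' : ∏ i, (![w, w * w, 1, w, w * w, 1] : Fin 6 → F) i = 1 := by
    simp only [Fin.prod_univ_six, _root_.Nat.succ_eq_add_one, _root_.Nat.reduceAdd, _root_.Fin.isValue, _root_.Matrix.cons_val_zero, _root_.Matrix.cons_val_one, _root_.Matrix.cons_val, _root_.mul_one]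
    linear_combination (w ^ 3 + 1) * h3
  have ha' : ∀ i, (![w, w * w, 1, w, w * w, 1] : Fin 6 → F) i ^ (2 + 1) = 1 := by
    intro i
    (revert i; simp only [h3, mul_pow, _root_.Fin.forall_fin_succ, _root_.Nat.succ_eq_add_one, Nat.reduceAdd, Fin.isValue, _root_.Matrix.cons_val_zero, _root_.Matrix.cons_val_succ, _root_.mul_one, _root_.one_pow, _root_.Matrix.cons_val_fin_one, _root_.implies_true, _root_.and_self])
  have hf : Fact (Nat.Prime 3) := ⟨Nat.prime_three⟩
  refine ⟨pr 6 F 2 (suDiag 2 _ hd ha), pr 6 F 2 (suDiag 2 _ hd' ha'), ?_, ?_, ?_⟩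
  · refine orderOf_eq_prime ?_ ?_
    · rw [← map_pow, suDiag_pow _ hd ha ha, map_one]
    · intro h
      obtain ⟨c, -, -, h4⟩ := mat_pr hF (by norm_num) (h.trans (map_one (pr 6 F 2)).symm)
      rw [mat_suDiag, mat_one] at h4
      have h5 := congrFun (congrFun h4 0) 0
      have h6 := congrFun (congrFun h4 2) 2
      simp at h5 h6
      rw [← h6, one_mul] at h5
      exact h1 h5.symm
  · refine orderOf_eq_prime ?_ ?_
    · rw [← map_pow, suDiag_pow _ hd' ha' ha', map_one]
    · intro h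
      obtain ⟨c, -, -, h4⟩ := mat_pr hF (by norm_num) (h.trans (map_one (pr 6 F 2)).symm)
      rw [mat_suDiag, mat_one] at h4
      have h5 := congrFun (congrFun h4 0) 0
      have h6 := congrFun (congrFun h4 2) 2
      simp at h5 h6
      rw [← h6, one_mul] at h5
      exact h1 h5.symm
  · intro φ hφ
    have h4 := (aut_trace hF (by norm_num) (by norm_num) φ hφ).2 (by
      rw [mat_suDiag, Matrix.trace_diagonal]
      simp only [Fin.sum_univ_six]
      simp only [_root_.Fin.isValue, _root_.Matrix.cons_val_zero, _root_.Matrix.cons_val_one, _root_.Matrix.cons_val]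
      linear_combination 2 * hw + (2 * w + 2) * h2)
    rw [mat_suDiag, Matrix.trace_diagonal] at h4
    simp only [Fin.sum_univ_six] at h4
    simp at h4
    apply one_ne_zero (α := F)
    linear_combination h4 - hw - (w + 2) * h2

def tbl6 : List ℕ := [60, 360, 2520, 20160, 181440, 168, 504, 660, 1451520, 25920, 13685760, 9196830720, 6048,
  3265920, 7920, 95040, 443520]

/-- **Every proper subgroup of `U₆(2)` misses a class (up to automorphisms) of elements of prime order.** -/
theorem u6 (OT : OrderTable.{0}) (hS : ∀ (X : Type) [Group X] [Finite X] [IsSimpleGroup X], Cfsg.IsKnownSimple' X)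
    (hF : Fintype.card F = 2 ^ 2) (M : Subgroup (PSU 6 F 2)) (hM : M ≠ ⊤) : Der (PSU 6 F 2) M := by
  have hcard := card_u6 hF
  by_cases hall : ∀ r ∈ [2, 3, 5, 7, 11], r ∣ Nat.card M
  swap
  · push Not at hall
    obtain ⟨r, hr, hrM⟩ := hall
    simp only [List.mem_cons, List.not_mem_nil, or_false] at hr
    refine der_of_prime (v := r) ?_ ?_ hrM
    · rcases hr with rfl | rfl | rfl | rfl | rfl <;> norm_num
    · rw [hcard]
      rcases hr with rfl | rfl | rfl | rfl | rfl <;> norm_num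
  have hv : valid [(2, 15), (3, 6), (5, 1), (7, 1), (11, 1)] 9196830720 = true := by decide +kernel
  have D : H970.StabNum.Data (PSU 6 F 2) [(11, 1, 5)] [2, 3, 5, 7] tbl6 := by
    refine H970.TwoSpor.mk_data OT hS hcard hv (by decide +kernel) ?_ ?_ (by decide +kernel) ?_
    · intro x hx
      simp only [List.mem_cons, List.not_mem_nil, or_false] at hx
      subst hx
      norm_num
    · intro r hr
      simp only [List.mem_cons, List.not_mem_nil, or_false] at hr
      rcases hr with rfl | rfl | rfl | rfl <;> norm_num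
    · intro x hx P hP
      simp only [List.mem_cons, List.not_mem_nil, or_false] at hx
      subst hx
      refine cent_norm (by norm_num) (by rw [hcard]; norm_num) (selfcent_u6 hF) ?_ P hP
      intro m hm _ hmod
      rw [hcard] at hmod
      have h1 : m ∈ Nat.divisors 10 := Nat.mem_divisors.2 ⟨hm, by norm_num⟩
      rw [show Nat.divisors 10 = {1, 2, 5, 10} by decide] at h1
      simp only [Finset.mem_insert, Finset.mem_singleton] at h1
      rcases h1 with rfl | rfl | rfl | rfl
      · norm_num at hmod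
      · norm_num at hmod
      · norm_num
      · norm_num at hmod
  have h1 := mem_surv D (by rw [hcard]; exact hv) M hall
  rw [show surv [(11, 1, 5)] [2, 3, 5, 7] tbl6 [(2, 15), (3, 6), (5, 1), (7, 1), (11, 1)] [2, 3, 5, 7, 11] =
    [443520, 9196830720] by decide +kernel] at h1
  simp only [List.mem_cons, List.not_mem_nil, or_false] at h1
  rcases h1 with h1 | h1
  · obtain ⟨hs, hna⟩ := simple_of D M (p := 11) (k := 1) (M := 5) (by simp) h1 (by norm_num) (by norm_num)
      (by decide +kernel)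
    obtain ⟨g, hg, hr⟩ := exists_real_filter OT (hS M) hna (l := [(2, 7), (3, 2), (5, 1), (7, 1), (11, 1)])
      (N := 443520) (by decide +kernel) (by rw [h1]) (fun o => Nat.beq o 443520) (by rw [h1]; rfl)
    rw [show ((cands [(2, 7), (3, 2), (5, 1), (7, 1), (11, 1)] 443520).filter fun g => Nat.beq (ordN g) 443520) =
      [.m22] by decide +kernel] at hg
    rw [List.mem_singleton] at hg
    subst hg
    obtain ⟨e⟩ := hr
    obtain ⟨x, y, hx, hy, hxy⟩ := two_u6 hF
    refine der_of_two Nat.prime_three hx hy hxy fun a b ha hb => ?_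
    have h2 := H337.M22Three.isConj_three (a := e a) (b := e b) (by rw [MulEquiv.orderOf_eq, ha])
      (by rw [MulEquiv.orderOf_eq, hb])
    obtain ⟨c, hc⟩ := isConj_iff.1 h2
    refine isConj_iff.2 ⟨e.symm c, e.injective ?_⟩
    rw [map_mul, map_mul, map_inv, MulEquiv.apply_symm_apply, hc]
  · exact absurd (Subgroup.eq_top_of_card_eq M (by rw [h1, hcard])) hM

end Cfsg.Agent.H251.Small
end

-- part: H251/Small/U43
section
/-!
# The maximal subgroups of `U₄(3)` miss a class of elements of prime order (helper251)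
-/

set_option autoImplicit false

namespace Cfsg.Agent.H251.Small

open Subgroup Cfsg Matrix Cfsg.Agent.H278.El Cfsg.Agent.H396 Cfsg.Agent.OrdDiv
open Cfsg.Agent.LieClassical.HermSiegel Cfsg.Agent.LieClassical.SUBasic Cfsg.Agent.LieClassical.HermBasic
open Cfsg.Agent.ClassicalGeometry.PSUAutBasic

/-! ### two conjugacy classes -/

theorem der_of_three {T : Type*} [Group T] {M : Subgroup T} {p : ℕ} (hp : p.Prime) {x y z : T} (hx : orderOf x = p)
    (hy : orderOf y = p) (hz : orderOf z = p) (hxy : ∀ φ : T ≃* T, φ x ≠ y) (hxz : ∀ φ : T ≃* T, φ x ≠ z)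
    (hyz : ∀ φ : T ≃* T, φ y ≠ z)
    (hM : ∀ a b c : M, orderOf a = p → orderOf b = p → orderOf c = p → IsConj a b ∨ IsConj a c ∨ IsConj b c) :
    Der T M := by
  by_contra hcon
  have h1 : ∀ z : T, orderOf z = p → ∃ φ : T ≃* T, φ z ∈ M := by
    intro z hz
    by_contra h
    push Not at h
    exact hcon ⟨z, by rw [hz]; exact hp, h⟩
  have ho : ∀ (u : T) (φ : T ≃* T) (h : φ u ∈ M), orderOf u = p → orderOf (⟨φ u, h⟩ : M) = p := by
    intro u φ h hu
    rw [Subgroup.orderOf_mk, ← hu]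
    exact orderOf_injective φ.toMonoidHom φ.injective u
  have hc : ∀ (u v : T) (φ ψ : T ≃* T) (h : φ u ∈ M) (h' : ψ v ∈ M),
      IsConj (⟨φ u, h⟩ : M) ⟨ψ v, h'⟩ → ∃ α : T ≃* T, α u = v := by
    intro u v φ ψ h h' hc
    obtain ⟨m, hm⟩ := isConj_iff.1 hc
    have h2 : (m : T) * φ u * (m : T)⁻¹ = ψ v := congrArg Subtype.val hm
    refine ⟨(φ.trans (MulAut.conj (m : T))).trans ψ.symm, ?_⟩
    change ψ.symm ((m : T) * φ u * (m : T)⁻¹) = v
    rw [h2, MulEquiv.symm_apply_apply]
  obtain ⟨φ, hφ⟩ := h1 x hx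
  obtain ⟨ψ, hψ⟩ := h1 y hy
  obtain ⟨χ, hχ⟩ := h1 z hz
  rcases hM ⟨φ x, hφ⟩ ⟨ψ y, hψ⟩ ⟨χ z, hχ⟩ (ho _ _ _ hx) (ho _ _ _ hy) (ho _ _ _ hz) with h | h | h
  · obtain ⟨α, hα⟩ := hc _ _ _ _ _ _ h
    exact hxy α hα
  · obtain ⟨α, hα⟩ := hc _ _ _ _ _ _ h
    exact hxz α hα
  · obtain ⟨α, hα⟩ := hc _ _ _ _ _ _ h
    exact hyz α hα

/-! ### `A₇` -/

theorem a7_cycleType (x : alternatingGroup (Fin 7)) (hx : orderOf x = 3) :
    (x : Equiv.Perm (Fin 7)).cycleType = {3} ∨ (x : Equiv.Perm (Fin 7)).cycleType = {3, 3} := by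
  have h3 : Fact (Nat.Prime 3) := ⟨Nat.prime_three⟩
  have hx' : orderOf (x : Equiv.Perm (Fin 7)) = 3 := by rw [Subgroup.orderOf_coe, hx]
  obtain ⟨n, hn⟩ := Equiv.Perm.cycleType_prime_order (σ := (x : Equiv.Perm (Fin 7))) (by rw [hx']; exact Nat.prime_three)
  rw [hx'] at hn
  have h4 := Equiv.Perm.sum_cycleType (x : Equiv.Perm (Fin 7))
  have h5 : (x : Equiv.Perm (Fin 7)).support.card ≤ 7 := by
    have := Finset.card_le_univ (x : Equiv.Perm (Fin 7)).support
    simpa using this
  rw [hn, Multiset.sum_replicate, smul_eq_mul] at h4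
  have h6 : n = 0 ∨ n = 1 := by omega
  rcases h6 with rfl | rfl
  · left; rw [hn]; rfl
  · right; rw [hn]; rfl

theorem isConj_alt {n : ℕ} {x y c : Equiv.Perm (Fin n)} (hx : x ∈ alternatingGroup (Fin n))
    (hy : y ∈ alternatingGroup (Fin n)) (h : IsConj x y) (hc : c * x = x * c) (hs : Equiv.Perm.sign c = -1) :
    IsConj (⟨x, hx⟩ : alternatingGroup (Fin n)) ⟨y, hy⟩ := by
  obtain ⟨g, hg⟩ := isConj_iff.1 h
  rcases Int.units_eq_one_or (Equiv.Perm.sign g) with h1 | h1
  · exact isConj_iff.2 ⟨⟨g, Equiv.Perm.mem_alternatingGroup.2 h1⟩, Subtype.ext hg⟩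
  · refine isConj_iff.2 ⟨⟨g * c, Equiv.Perm.mem_alternatingGroup.2 (by rw [map_mul, h1, hs]; rfl)⟩, Subtype.ext ?_⟩
    change g * c * x * (g * c)⁻¹ = y
    rw [← hg]
    calc g * c * x * (g * c)⁻¹ = g * (c * x) * c⁻¹ * g⁻¹ := by group
      _ = g * x * g⁻¹ := by rw [hc]; group

/-- there is an odd permutation commuting with `x`. -/
theorem exists_odd {n : ℕ} {x x₀ c₀ : Equiv.Perm (Fin n)} (h : IsConj x₀ x) (hc : c₀ * x₀ = x₀ * c₀)
    (hs : Equiv.Perm.sign c₀ = -1) : ∃ c : Equiv.Perm (Fin n), c * x = x * c ∧ Equiv.Perm.sign c = -1 := by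
  obtain ⟨g, rfl⟩ := isConj_iff.1 h
  refine ⟨g * c₀ * g⁻¹, ?_, ?_⟩
  · calc g * c₀ * g⁻¹ * (g * x₀ * g⁻¹) = g * (c₀ * x₀) * g⁻¹ := by group
      _ = g * x₀ * g⁻¹ * (g * c₀ * g⁻¹) := by rw [hc]; group
  · rw [map_mul, map_mul, map_inv, hs]
    rw [mul_comm (Equiv.Perm.sign g), mul_inv_cancel_right]

theorem a7_conj {x y : alternatingGroup (Fin 7)} (hx : orderOf x = 3)
    (h : (x : Equiv.Perm (Fin 7)).cycleType = (y : Equiv.Perm (Fin 7)).cycleType) : IsConj x y := by
  have hxy := Equiv.Perm.isConj_iff_cycleType_eq.2 h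
  obtain ⟨c, hc, hs⟩ : ∃ c : Equiv.Perm (Fin 7), c * (x : Equiv.Perm (Fin 7)) = x * c ∧
      Equiv.Perm.sign c = -1 := by
    rcases a7_cycleType x hx with h1 | h1
    · refine exists_odd (x₀ := c[(0 : Fin 7), 1, 2]) (c₀ := Equiv.swap (3 : Fin 7) 4) (Equiv.Perm.isConj_iff_cycleType_eq.2 ?_) ?_ ?_
      · rw [h1]; decide +kernel
      · decide +kernel
      · decide +kernel
    · refine exists_odd (x₀ := c[(0 : Fin 7), 1, 2] * c[(3 : Fin 7), 4, 5]) (c₀ := Equiv.swap (0 : Fin 7) 3 * Equiv.swap (1 : Fin 7) 4 * Equiv.swap (2 : Fin 7) 5)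
        (Equiv.Perm.isConj_iff_cycleType_eq.2 ?_) ?_ ?_
      · rw [h1]; decide +kernel
      · decide +kernel
      · decide +kernel
  exact isConj_alt x.2 y.2 hxy hc hs

theorem a7_three (a b c : alternatingGroup (Fin 7)) (ha : orderOf a = 3) (hb : orderOf b = 3) (hc : orderOf c = 3) :
    IsConj a b ∨ IsConj a c ∨ IsConj b c := by
  rcases a7_cycleType a ha with h1 | h1 <;> rcases a7_cycleType b hb with h2 | h2 <;>
    rcases a7_cycleType c hc with h3 | h3
  · exact Or.inl (a7_conj ha (h1.trans h2.symm))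
  · exact Or.inl (a7_conj ha (h1.trans h2.symm))
  · exact Or.inr (Or.inl (a7_conj ha (h1.trans h3.symm)))
  · exact Or.inr (Or.inr (a7_conj hb (h2.trans h3.symm)))
  · exact Or.inr (Or.inr (a7_conj hb (h2.trans h3.symm)))
  · exact Or.inr (Or.inl (a7_conj ha (h1.trans h3.symm)))
  · exact Or.inl (a7_conj ha (h1.trans h2.symm))
  · exact Or.inl (a7_conj ha (h1.trans h2.symm))

/-! ### unipotent elements of `SU₄(3)` -/

variable {F : Type} [Field F] [Fintype F]

theorem mat_transv {n q : ℕ} (hF : Fintype.card F = q ^ 2) {u : Fin n → F} (hu : hermForm n F q u u = 0)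
    {μ : F} (hμ : μ + μ ^ q = 0) :
    mat (transv hF u hu μ hμ) = 1 + vecMulVec (μ • u) (fun j => u j ^ q) := by
  apply Matrix.ext_of_mulVec_single
  intro j
  have h := act_transv hF hu hμ (Pi.single j 1)
  rw [act_def] at h
  rw [h, Matrix.add_mulVec, Matrix.one_mulVec]
  congr 1
  funext i
  simp only [hermForm, Matrix.mulVec, dotProduct, vecMulVec_apply, Pi.single_apply, ite_mul, _root_.one_mul, _root_.MulZeroClass.zero_mul, _root_.Finset.sum_ite_eq', _root_.Finset.mem_univ, ↓ _root_.reduceIte, _root_.Pi.smul_apply, _root_.smul_eq_mul, _root_.mul_ite, _root_.mul_one, _root_.MulZeroClass.mul_zero]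
  ring

theorem mat_pow' {F : Type*} [Field F] {n q : ℕ} (g : SU n F q) (k : ℕ) : mat (g ^ k) = mat g ^ k := by
  induction k with
  | zero => rw [pow_zero, pow_zero, mat_one]
  | succ k ih => rw [pow_succ, pow_succ, mat_mul, ih]

theorem aut_unip (hF : Fintype.card F = 3 ^ 2) (φ : MulAut (PSU 4 F 3)) {x y : SU 4 F 3} (hx : x ^ 3 = 1)
    (hy : y ^ 3 = 1) (h : φ (pr 4 F 3 x) = pr 4 F 3 y) :
    ∃ (A B : Matrix (Fin 4) (Fin 4) F) (ρ : F ≃+* F), A * B = 1 ∧
      mat y - 1 = A * (mat x - 1).map ρ * B := by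
  obtain ⟨A, B, ρ, c, h1, h2, h3, h4⟩ := aut_mat hF (by norm_num) (by norm_num) φ h
  have hBA : B * A = 1 := _root_.mul_eq_one_comm.1 h1
  have hc3 : c ^ 3 = 1 := by
    have h5 : mat y ^ 3 = 1 := by rw [← mat_pow', hy, mat_one]
    have h6 : (mat x).map ρ ^ 3 = 1 := by
      have h7 : mat x ^ 3 = 1 := by rw [← mat_pow', hx, mat_one]
      have h8 := congrArg (fun X : Matrix (Fin 4) (Fin 4) F => (ρ : F →+* F).mapMatrix X) h7
      simp only [map_pow, map_one] at h8
      exact h8
    rw [h4, smul_pow] at h5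
    have h7 : (A * (mat x).map ρ * B) ^ 3 = 1 := by
      have : (A * (mat x).map ρ * B) ^ 3 = A * (mat x).map ρ ^ 3 * B := by
        rw [pow_succ, pow_two, pow_succ, pow_two]
        calc A * (mat x).map ρ * B * (A * (mat x).map ρ * B) * (A * (mat x).map ρ * B)
            = A * (mat x).map ρ * (B * A) * (mat x).map ρ * (B * A) * (mat x).map ρ * B := by
              simp only [Matrix.mul_assoc]
          _ = _ := by rw [hBA]; simp only [Matrix.mul_assoc, Matrix.mul_one]
      rw [this, h6, Matrix.mul_one, h1]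
    rw [h7] at h5
    have h9 := congrFun (congrFun h5 0) 0
    simpa using h9
  have hc : c = 1 := by
    calc c = c * c ^ 3 := by rw [hc3, mul_one]
      _ = c ^ 4 := by ring
      _ = 1 := h2
  refine ⟨A, B, ρ, h1, ?_⟩
  rw [h4, hc, one_smul]
  have h5 : (mat x - 1).map ρ = (mat x).map ρ - 1 := by
    have := map_sub (ρ : F →+* F).mapMatrix (mat x) 1
    rw [map_one] at this
    exact this
  rw [h5, Matrix.mul_sub, Matrix.sub_mul, Matrix.mul_one, h1]

/-- an element of order `8` in `F₉`. -/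
theorem exists_zeta {F : Type*} [Field F] [Fintype F] (hF : Fintype.card F = 3 ^ 2) :
    ∃ a : F, a ^ 4 = -1 ∧ (3 : F) = 0 := by
  classical
  have h3 : (3 : F) = 0 := by
    have h := FiniteField.cast_card_eq_zero F
    rw [hF] at h
    have : ((3 : F)) * 3 = 0 := by
      have h' : ((3 ^ 2 : ℕ) : F) = 3 * 3 := by norm_num
      rw [← h', h]
    rcases mul_eq_zero.1 this with h | h <;> exact h
  obtain ⟨g, hg⟩ := IsCyclic.exists_generator (α := Fˣ)
  have ho : orderOf g = 8 := by
    rw [orderOf_eq_card_of_forall_mem_zpowers hg, Nat.card_eq_fintype_card, Fintype.card_units, hF]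
    norm_num
  refine ⟨g, ?_, h3⟩
  have h8 : g ^ 8 = 1 := by rw [← ho, pow_orderOf_eq_one]
  have h4 : (g : F) ^ 4 ≠ 1 := by
    intro h
    have h5 : g ^ 4 = 1 := Units.ext (by rw [Units.val_pow_eq_pow_val, h, Units.val_one])
    have h6 := orderOf_dvd_of_pow_eq_one h5
    rw [ho] at h6
    norm_num at h6
  have h9 : ((g : F) ^ 4 - 1) * ((g : F) ^ 4 + 1) = 0 := by
    have : ((g : F) ^ 8) = 1 := by rw [← Units.val_pow_eq_pow_val, h8, Units.val_one]
    linear_combination this
  rcases mul_eq_zero.1 h9 with h | h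
  · exact absurd (sub_eq_zero.1 h) h4
  · exact eq_neg_of_add_eq_zero_left h

theorem cube_of_sq {R : Type*} [Ring R] {N : R} (h3 : (3 : R) = 0) (hN : N * N = 0) : (1 + N) ^ 3 = 1 := by
  have : (1 + N) ^ 3 = 1 + 3 * N + 3 * (N * N) + N * N * N := by noncomm_ring
  rw [this, h3, hN]
  simp

theorem nn {F : Type*} [Field F] {n q : ℕ} (u v w : Fin n → F) (μ ν : F) (h : hermForm n F q u v = 0) :
    vecMulVec (ν • v) (fun j => v j ^ q) * vecMulVec (μ • u) w = 0 := by
  rw [Matrix.vecMulVec_mul_vecMulVec]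
  have h1 : (fun j => v j ^ q) ⬝ᵥ (μ • u) = 0 := by
    rw [dotProduct_smul, dotProduct_comm]
    change μ • hermForm n F q u v = 0
    rw [h, smul_zero]
  rw [h1, zero_smul, Matrix.vecMulVec_zero]

theorem orderOf_pr (hF : Fintype.card F = 3 ^ 2) {g : SU 4 F 3} (h3 : g ^ 3 = 1) (h1 : g ≠ 1) :
    orderOf (pr 4 F 3 g) = 3 := by
  have hf : Fact (Nat.Prime 3) := ⟨Nat.prime_three⟩
  refine orderOf_eq_prime (by rw [← map_pow, h3, map_one]) fun h => h1 ?_
  obtain ⟨c, hc4, -, h4⟩ := mat_pr hF (by norm_num) (h.trans (map_one (pr 4 F 3)).symm)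
  rw [mat_one] at h4
  have h5 : mat g = c ^ 3 • (1 : Matrix (Fin 4) (Fin 4) F) := by
    rw [h4, smul_smul, ← pow_succ, hc4, one_smul]
  have h6 : (c ^ 3) ^ 3 = 1 := by
    have h7 : mat g ^ 3 = 1 := by rw [← mat_pow', h3, mat_one]
    rw [h5, smul_pow, one_pow] at h7
    have h9 := congrFun (congrFun h7 0) 0
    simpa using h9
  have hc : c ^ 3 = 1 := by
    calc c ^ 3 = c ^ 3 * (c ^ 3) ^ 3 := by rw [h6, mul_one]
      _ = (c ^ 4) ^ 3 := by ring
      _ = 1 := by rw [hc4, one_pow]
  apply mat_injective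
  rw [h5, hc, one_smul, mat_one]

/-- three types of elements of order `3`. -/
theorem three_u43 (hF : Fintype.card F = 3 ^ 2) :
    ∃ x y z : PSU 4 F 3, orderOf x = 3 ∧ orderOf y = 3 ∧ orderOf z = 3 ∧
      (∀ φ : PSU 4 F 3 ≃* PSU 4 F 3, φ x ≠ y) ∧ (∀ φ : PSU 4 F 3 ≃* PSU 4 F 3, φ x ≠ z) ∧
      (∀ φ : PSU 4 F 3 ≃* PSU 4 F 3, φ y ≠ z) := by
  obtain ⟨a, ha, h3⟩ := exists_zeta hF
  have ha0 : a ≠ 0 := by
    rintro rfl
    rw [zero_pow (by norm_num)] at ha
    exact one_ne_zero (neg_eq_zero.1 ha.symm)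
  have h1 : hermForm 4 F 3 ![1, a, 0, 0] ![1, a, 0, 0] = 0 := by
    simp only [hermForm, Fin.sum_univ_four, _root_.Fin.isValue, _root_.Matrix.cons_val_zero, _root_.one_pow, _root_.mul_one, _root_.Matrix.cons_val_one, _root_.Matrix.cons_val, _root_.ne_eq, _root_.OfNat.ofNat_ne_zero, _root_.not_false_eq_true, _root_.zero_pow, _root_.MulZeroClass.mul_zero, _root_.add_zero]
    linear_combination ha
  have h2 : hermForm 4 F 3 ![0, 0, 1, a] ![0, 0, 1, a] = 0 := by
    simp only [hermForm, Fin.sum_univ_four, _root_.Fin.isValue, _root_.Matrix.cons_val_zero, _root_.ne_eq, _root_.OfNat.ofNat_ne_zero, _root_.not_false_eq_true, _root_.zero_pow, _root_.MulZeroClass.mul_zero, _root_.Matrix.cons_val_one, _root_.add_zero, _root_.Matrix.cons_val, _root_.one_pow, _root_.mul_one, _root_.zero_add]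
    linear_combination ha
  have h12 : hermForm 4 F 3 ![1, a, 0, 0] ![0, 0, 1, a] = 0 := by
    simp [hermForm, Fin.sum_univ_four]
  have h21 : hermForm 4 F 3 ![0, 0, 1, a] ![1, a, 0, 0] = 0 := by
    simp [hermForm, Fin.sum_univ_four]
  have hμ : a ^ 2 + (a ^ 2) ^ 3 = 0 := by linear_combination a ^ 2 * ha
  have h3M : (3 : Matrix (Fin 4) (Fin 4) F) = 0 := by
    have : ((3 : ℕ) : Matrix (Fin 4) (Fin 4) F) = ((3 : ℕ) : F) • 1 := by
      rw [Nat.cast_smul_eq_nsmul, nsmul_one]
    have h4 : ((3 : ℕ) : F) = 0 := by exact_mod_cast h3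
    rw [h4, zero_smul] at this
    exact_mod_cast this
  set N1 : Matrix (Fin 4) (Fin 4) F := vecMulVec (a ^ 2 • ![1, a, 0, 0]) (fun j => ![1, a, 0, 0] j ^ 3) with hN1
  set N2 : Matrix (Fin 4) (Fin 4) F := vecMulVec (a ^ 2 • ![0, 0, 1, a]) (fun j => ![0, 0, 1, a] j ^ 3) with hN2
  have e11 : N1 * N1 = 0 := nn _ _ _ _ _ h1
  have e22 : N2 * N2 = 0 := nn _ _ _ _ _ h2
  have e12 : N1 * N2 = 0 := nn _ _ _ _ _ h21
  have e21 : N2 * N1 = 0 := nn _ _ _ _ _ h12
  set x := transv hF ![1, a, 0, 0] h1 (a ^ 2) hμ with hx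
  set x' := transv hF ![0, 0, 1, a] h2 (a ^ 2) hμ with hx'
  have mx : mat x = 1 + N1 := mat_transv hF h1 hμ
  have mx' : mat x' = 1 + N2 := mat_transv hF h2 hμ
  have my : mat (x * x') = 1 + (N1 + N2) := by
    rw [mat_mul, mx, mx', Matrix.add_mul, Matrix.mul_add, Matrix.mul_add, e12]
    simp only [Matrix.one_mul, Matrix.mul_one]
    abel
  have ey : (N1 + N2) * (N1 + N2) = 0 := by
    rw [Matrix.add_mul, Matrix.mul_add, Matrix.mul_add, e11, e12, e21, e22]
    simp
  have ox : x ^ 3 = 1 := mat_injective (by rw [mat_pow', mx, cube_of_sq h3M e11, mat_one])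
  have oy : (x * x') ^ 3 = 1 := mat_injective (by rw [mat_pow', my, cube_of_sq h3M ey, mat_one])
  set z : SU 4 F 3 := suPerm 3 (c[(0 : Fin 4), 1, 2] : Equiv.Perm (Fin 4)) (by decide +kernel) with hz
  have mz : mat z = (c[(0 : Fin 4), 1, 2] : Equiv.Perm (Fin 4)).permMatrix F := rfl
  have oz : z ^ 3 = 1 := by
    apply mat_injective
    rw [mat_pow', mz, mat_one, pow_succ, pow_two, ← Matrix.permMatrix_mul, ← Matrix.permMatrix_mul]
    rw [show (c[(0 : Fin 4), 1, 2] : Equiv.Perm (Fin 4)) * (c[(0 : Fin 4), 1, 2] * c[(0 : Fin 4), 1, 2]) = 1 by decide +kernel]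
    exact Matrix.permMatrix_one
  have n100 : N1 0 0 = a ^ 2 := by simp [hN1]
  have n200 : N2 0 0 = 0 := by simp [hN2]
  have n122 : N1 2 2 = 0 := by simp [hN1]
  have n222 : N2 2 2 = a ^ 2 := by simp [hN2]
  have n102 : N1 0 2 = 0 := by simp [hN1]
  have n202 : N2 0 2 = 0 := by simp [hN2]
  have zz : ((mat z - 1) * (mat z - 1)) 0 0 = 1 := by
    have q0 : (c[(0 : Fin 4), 1, 2] : Equiv.Perm (Fin 4)) 0 = 1 := by decide +kernel
    have q1 : (c[(0 : Fin 4), 1, 2] : Equiv.Perm (Fin 4)) 1 = 2 := by decide +kernel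
    have q2 : (c[(0 : Fin 4), 1, 2] : Equiv.Perm (Fin 4)) 2 = 0 := by decide +kernel
    have q3 : (c[(0 : Fin 4), 1, 2] : Equiv.Perm (Fin 4)) 3 = 3 := by decide +kernel
    have hp : ∀ i j, mat z i j = if (c[(0 : Fin 4), 1, 2] : Equiv.Perm (Fin 4)) i = j then 1 else 0 := by
      intro i j
      rw [mz, Equiv.Perm.permMatrix, PEquiv.toMatrix_apply]
      simp [Equiv.toPEquiv, eq_comm]
    rw [Matrix.mul_apply, Fin.sum_univ_four]
    simp only [Matrix.sub_apply, hp, q0, q1, q2, q3]
    simp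
  have ux : mat x - 1 = N1 := by rw [mx, add_sub_cancel_left]
  have uy : mat (x * x') - 1 = N1 + N2 := by rw [my, add_sub_cancel_left]
  -- the square is an invariant
  have hsq : ∀ {g h : SU 4 F 3} (φ : PSU 4 F 3 ≃* PSU 4 F 3), g ^ 3 = 1 → h ^ 3 = 1 →
      (mat g - 1) * (mat g - 1) = 0 → φ (pr 4 F 3 g) = pr 4 F 3 h → (mat h - 1) * (mat h - 1) = 0 := by
    intro g h φ hg hh hgg hφ
    obtain ⟨A, B, ρ, hAB, hh'⟩ := aut_unip hF φ hg hh hφ
    have hBA : B * A = 1 := _root_.mul_eq_one_comm.1 hAB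
    have h5 : (mat g - 1).map ρ * (mat g - 1).map ρ = 0 := by
      have := congrArg (fun X : Matrix (Fin 4) (Fin 4) F => (ρ : F →+* F).mapMatrix X) hgg
      simp only [map_mul, map_zero] at this
      exact this
    rw [hh']
    calc A * (mat g - 1).map ρ * B * (A * (mat g - 1).map ρ * B)
        = A * (mat g - 1).map ρ * (B * A) * ((mat g - 1).map ρ * B) := by simp only [Matrix.mul_assoc]
      _ = A * ((mat g - 1).map ρ * (mat g - 1).map ρ) * B := by
          rw [hBA, Matrix.mul_one]; simp only [Matrix.mul_assoc]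
      _ = 0 := by rw [h5, Matrix.mul_zero, Matrix.zero_mul]
  refine ⟨pr 4 F 3 x, pr 4 F 3 (x * x'), pr 4 F 3 z, orderOf_pr hF ox ?_, orderOf_pr hF oy ?_,
    orderOf_pr hF oz ?_, ?_, ?_, ?_⟩
  · intro h
    rw [h, mat_one, sub_self] at ux
    rw [← ux, Matrix.zero_apply] at n100
    exact pow_ne_zero 2 ha0 n100.symm
  · intro h
    rw [h, mat_one, sub_self] at uy
    have h5 := congrFun (congrFun uy 0) 0
    rw [Matrix.zero_apply, Matrix.add_apply, n100, n200, add_zero] at h5
    exact pow_ne_zero 2 ha0 h5.symm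
  · intro h
    rw [h, mat_one, sub_self, Matrix.zero_mul, Matrix.zero_apply] at zz
    exact zero_ne_one zz
  · intro φ hφ
    obtain ⟨A, B, ρ, hAB, hh'⟩ := aut_unip hF φ ox oy hφ
    rw [ux, uy] at hh'
    obtain ⟨u, v, huv⟩ : ∃ u v : Fin 4 → F, A * N1.map ρ * B = vecMulVec u v := by
      refine ⟨A *ᵥ (fun i => ρ ((a ^ 2 • ![1, a, 0, 0]) i)), (fun j => ρ (![1, a, 0, 0] j ^ 3)) ᵥ* B, ?_⟩
      have h5 : N1.map ρ = vecMulVec (fun i => ρ ((a ^ 2 • ![1, a, 0, 0]) i)) (fun j => ρ (![1, a, 0, 0] j ^ 3)) := by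
        ext i j
        rw [Matrix.map_apply, hN1, vecMulVec_apply, vecMulVec_apply, map_mul]
      rw [h5, Matrix.mul_vecMulVec, Matrix.vecMulVec_mul]
    rw [huv] at hh'
    have f00 : u 0 * v 0 = a ^ 2 := by
      rw [← vecMulVec_apply, ← hh', Matrix.add_apply, n100, n200, add_zero]
    have f22 : u 2 * v 2 = a ^ 2 := by
      rw [← vecMulVec_apply, ← hh', Matrix.add_apply, n122, n222, zero_add]
    have f02 : u 0 * v 2 = 0 := by
      rw [← vecMulVec_apply, ← hh', Matrix.add_apply, n102, n202, add_zero]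
    have h6 : a ^ 2 * a ^ 2 = 0 := by
      calc a ^ 2 * a ^ 2 = (u 0 * v 0) * (u 2 * v 2) := by rw [f00, f22]
        _ = (u 0 * v 2) * (u 2 * v 0) := by ring
        _ = 0 := by rw [f02, zero_mul]
    exact pow_ne_zero 2 ha0 (mul_self_eq_zero.1 h6)
  · intro φ hφ
    have h5 := hsq φ ox oz (by rw [ux]; exact e11) hφ
    rw [h5, Matrix.zero_apply] at zz
    exact zero_ne_one zz
  · intro φ hφ
    have h5 := hsq φ oy oz (by rw [uy]; exact ey) hφ
    rw [h5, Matrix.zero_apply] at zz
    exact zero_ne_one zz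

theorem not_comm_seven (hF : Fintype.card F = 3 ^ 2) (g : PSU 4 F 3) : orderOf g ≠ 5 * 7 := by
  intro hg
  have h9 : Fintype.card F = 9 := by rw [hF]; norm_num
  have h1 : orderOf (g ^ 5) = 7 := by rw [orderOf_pow' _ (by norm_num), hg]; rfl
  have h2 : orderOf (g ^ 7) = 5 := by rw [orderOf_pow' _ (by norm_num), hg]; rfl
  have h3 := H844.USeven.centralizer_eq h9 (zpowers (g ^ 5)) (by rw [Nat.card_zpowers, h1])
  have h4 : g ^ 7 ∈ centralizer ((zpowers (g ^ 5) : Subgroup (PSU 4 F 3)) : Set (PSU 4 F 3)) := by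
    rw [Subgroup.mem_centralizer_iff]
    rintro _ ⟨k, rfl⟩
    exact (((Commute.refl g).pow_pow 5 7).zpow_left k).eq
  rw [h3] at h4
  have h5 := Subgroup.orderOf_dvd_natCard (zpowers (g ^ 5)) h4
  rw [Nat.card_zpowers, h1, h2] at h5
  norm_num at h5

theorem not_ten_u43 (hF : Fintype.card F = 3 ^ 2) (g : PSU 4 F 3) : orderOf g ≠ 5 * 2 := by
  intro hg
  have h9 : Fintype.card F = 9 := by rw [hF]; norm_num
  have h1 : orderOf (g ^ 5) = 2 := by rw [orderOf_pow' _ (by norm_num), hg]; rfl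
  have h2 : orderOf (g ^ 2) = 5 := by rw [orderOf_pow' _ (by norm_num), hg]; rfl
  have h3 := H236.USeven.card_cent h9 (t := g ^ 5) (by rw [← pow_two, ← h1, pow_orderOf_eq_one])
    (by intro h; rw [h, orderOf_one] at h1; norm_num at h1)
  have h4 : g ^ 2 ∈ centralizer ({g ^ 5} : Set (PSU 4 F 3)) := by
    rw [Subgroup.mem_centralizer_singleton_iff]
    exact ((Commute.refl g).pow_pow 2 5).eq
  have h5 := Subgroup.orderOf_dvd_natCard _ h4
  rw [h3, h2] at h5
  norm_num at h5

theorem selfcent5_u43 (hF : Fintype.card F = 3 ^ 2) :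
    ∃ R : Subgroup (PSU 4 F 3), Nat.card R = 5 ∧ centralizer (R : Set (PSU 4 F 3)) = R := by
  have h9 : Fintype.card F = 9 := by rw [hF]; norm_num
  have hcard := H844.USeven.card_psu h9
  refine H732.SelfCent.selfcent_of_orders (by norm_num) (by rw [hcard]; norm_num) (by rw [hcard]; norm_num) ?_
  intro s hs hsd hne g
  rw [hcard] at hsd
  have h1 : s ∣ 2 ^ 7 * 3 ^ 6 * 5 ^ 1 * 7 ^ 1 * 11 ^ 0 * 13 ^ 0 * 17 ^ 0 * 31 ^ 0 := by
    norm_num
    exact hsd
  rcases H732.SelfCent.small_primes hs h1 with ⟨rfl, -⟩ | ⟨rfl, -⟩ | ⟨rfl, -⟩ | ⟨rfl, -⟩ | ⟨-, h⟩ | ⟨-, h⟩ |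
    ⟨-, h⟩ | ⟨-, h⟩
  · exact not_ten_u43 hF g
  · intro hg
    exact H169.U4.na_char (p := 3) (f := 1) Nat.prime_three le_rfl (by norm_num) hF (r := 5) (by norm_num)
      (by norm_num) (by norm_num) ⟨g, by rw [hg]⟩
  · exact absurd rfl hne
  · exact not_comm_seven hF g
  all_goals exact absurd rfl h

theorem selfcent7_u43 (hF : Fintype.card F = 3 ^ 2) :
    ∃ R : Subgroup (PSU 4 F 3), Nat.card R = 7 ∧ centralizer (R : Set (PSU 4 F 3)) = R :=
  Cfsg.Agent.H809.SelfCent.psu_selfcent 4 3 7 (by decide) F hF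

theorem no_fifteen_u43 (hF : Fintype.card F = 3 ^ 2) (g : PSU 4 F 3) : orderOf g ≠ 15 := by
  intro hg
  exact H169.U4.na_char (p := 3) (f := 1) Nat.prime_three le_rfl (by norm_num) hF (r := 5) (by norm_num)
    (by norm_num) (by norm_num) ⟨g, by rw [hg]⟩

theorem fifteen_a8 : ∃ g : alternatingGroup (Fin 8), orderOf g = 15 := by
  refine ⟨⟨c[(0 : Fin 8), 1, 2, 3, 4] * c[(5 : Fin 8), 6, 7], Equiv.Perm.mem_alternatingGroup.2 (by decide +kernel)⟩, ?_⟩
  refine orderOf_eq_of_pow_and_pow_div_prime (by norm_num) ?_ ?_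
  · decide +kernel
  · intro p hp hd
    have h2 : p = 3 ∨ p = 5 := by
      have h3 : p ∣ 3 * 5 := hd
      rcases hp.dvd_mul.1 h3 with h | h
      · exact Or.inl ((Nat.prime_dvd_prime_iff_eq hp Nat.prime_three).1 h)
      · exact Or.inr ((Nat.prime_dvd_prime_iff_eq hp (by norm_num)).1 h)
    rcases h2 with rfl | rfl
    · decide +kernel
    · decide +kernel

def tbl43 : List ℕ := [60, 360, 2520, 20160, 181440, 168, 504, 25920, 6048, 3265920]

/-- **Every proper subgroup of `U₄(3)` misses a class (up to automorphisms) of elements of prime order.** -/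
theorem u43 (OT : OrderTable.{0}) (hS : ∀ (X : Type) [Group X] [Finite X] [IsSimpleGroup X], Cfsg.IsKnownSimple' X)
    (hF : Fintype.card F = 3 ^ 2) (M : Subgroup (PSU 4 F 3)) (hM : M ≠ ⊤) : Der (PSU 4 F 3) M := by
  have h9 : Fintype.card F = 9 := by rw [hF]; norm_num
  have hcard := H844.USeven.card_psu h9
  have : Finite (PSU 4 F 3) := Nat.finite_of_card_ne_zero (by rw [hcard]; norm_num)
  by_cases hall : ∀ r ∈ [2, 3, 5, 7], r ∣ Nat.card M
  swap
  · push Not at hall
    obtain ⟨r, hr, hrM⟩ := hall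
    simp only [List.mem_cons, List.not_mem_nil, or_false] at hr
    refine der_of_prime (v := r) ?_ ?_ hrM
    · rcases hr with rfl | rfl | rfl | rfl <;> norm_num
    · rw [hcard]
      rcases hr with rfl | rfl | rfl | rfl <;> norm_num
  have hv : valid [(2, 7), (3, 6), (5, 1), (7, 1)] 3265920 = true := by decide +kernel
  have D : H970.StabNum.Data (PSU 4 F 3) [(5, 1, 4), (7, 1, 3)] [2, 3, 5, 7] tbl43 := by
    refine H970.TwoSpor.mk_data OT hS hcard hv (by decide +kernel) ?_ ?_ (by decide +kernel) ?_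
    · intro x hx
      simp only [List.mem_cons, List.not_mem_nil, or_false] at hx
      rcases hx with rfl | rfl <;> norm_num
    · intro r hr
      simp only [List.mem_cons, List.not_mem_nil, or_false] at hr
      rcases hr with rfl | rfl | rfl | rfl <;> norm_num
    · intro x hx P hP
      simp only [List.mem_cons, List.not_mem_nil, or_false] at hx
      rcases hx with rfl | rfl
      · refine cent_norm (by norm_num) (by rw [hcard]; norm_num) (selfcent5_u43 hF) ?_ P hP
        intro m hm _ _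
        exact hm
      · refine cent_norm (by norm_num) (by rw [hcard]; norm_num) (selfcent7_u43 hF) ?_ P hP
        intro m hm _ hmod
        rw [hcard] at hmod
        have h1 : m ∈ Nat.divisors 6 := Nat.mem_divisors.2 ⟨hm, by norm_num⟩
        rw [show Nat.divisors 6 = {1, 2, 3, 6} by decide] at h1
        simp only [Finset.mem_insert, Finset.mem_singleton] at h1
        rcases h1 with rfl | rfl | rfl | rfl
        · norm_num at hmod
        · norm_num at hmod
        · norm_num
        · norm_num at hmod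
  have h1 := mem_surv D (by rw [hcard]; exact hv) M hall
  rw [show surv [(5, 1, 4), (7, 1, 3)] [2, 3, 5, 7] tbl43 [(2, 7), (3, 6), (5, 1), (7, 1)] [2, 3, 5, 7] =
    [2520, 20160, 3265920] by decide +kernel] at h1
  simp only [List.mem_cons, List.not_mem_nil, or_false] at h1
  obtain ⟨x, y, z, hx, hy, hz, hxy, hxz, hyz⟩ := three_u43 hF
  rcases h1 with h1 | h1 | h1
  · obtain ⟨hs, hna⟩ := simple_of D M (p := 7) (k := 1) (M := 3) (by simp) h1 (by norm_num) (by norm_num)
      (by decide +kernel)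
    obtain ⟨g, hg, hr⟩ := exists_real_filter OT (hS M) hna (l := [(2, 3), (3, 2), (5, 1), (7, 1)])
      (N := 2520) (by decide +kernel) (by rw [h1]) (fun o => Nat.beq o 2520) (by rw [h1]; rfl)
    rw [show ((cands [(2, 3), (3, 2), (5, 1), (7, 1)] 2520).filter fun g => Nat.beq (ordN g) 2520) =
      [.alt 7] by decide +kernel] at hg
    rw [List.mem_singleton] at hg
    subst hg
    obtain ⟨e⟩ := hr
    refine der_of_three Nat.prime_three hx hy hz hxy hxz hyz fun a b c ha hb hc => ?_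
    have key : ∀ a b : M, IsConj (e a) (e b) → IsConj a b := by
      intro a b h
      obtain ⟨c, hc⟩ := isConj_iff.1 h
      refine isConj_iff.2 ⟨e.symm c, e.injective ?_⟩
      rw [map_mul, map_mul, map_inv, MulEquiv.apply_symm_apply, hc]
    rcases a7_three (e a) (e b) (e c) (by rw [MulEquiv.orderOf_eq, ha]) (by rw [MulEquiv.orderOf_eq, hb])
      (by rw [MulEquiv.orderOf_eq, hc]) with h | h | h
    · exact Or.inl (key _ _ h)
    · exact Or.inr (Or.inl (key _ _ h))
    · exact Or.inr (Or.inr (key _ _ h))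
  · obtain ⟨hs, hna⟩ := simple_of D M (p := 5) (k := 1) (M := 4) (by simp) h1 (by norm_num) (by norm_num)
      (by decide +kernel)
    obtain ⟨g, hg, hr⟩ := exists_real_filter OT (hS M) hna (l := [(2, 6), (3, 2), (5, 1), (7, 1)])
      (N := 20160) (by decide +kernel) (by rw [h1]) (fun o => Nat.beq o 20160) (by rw [h1]; rfl)
    have hA8 : ¬ Nonempty (M ≃* alternatingGroup (Fin 8)) := by
      rintro ⟨e⟩
      obtain ⟨z, hz⟩ := fifteen_a8
      refine no_fifteen_u43 hF ((e.symm z : M) : PSU 4 F 3) ?_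
      rw [Subgroup.orderOf_coe, MulEquiv.orderOf_eq, hz]
    rw [show ((cands [(2, 6), (3, 2), (5, 1), (7, 1)] 20160).filter fun g => Nat.beq (ordN g) 20160) =
      [.alt 8, .psl 4 2, .psl 3 4] by decide +kernel] at hg
    simp only [List.mem_cons, List.not_mem_nil, or_false] at hg
    rcases hg with rfl | rfl | rfl
    · exact absurd hr hA8
    · obtain ⟨K, _, _, hK, ⟨e⟩⟩ := hr
      obtain ⟨f⟩ := S0256.result (F := K) hK
      exact absurd ⟨e.trans f⟩ hA8
    · obtain ⟨K, _, _, hK, ⟨e⟩⟩ := hr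
      refine der_of_two Nat.prime_three hx hy hxy fun a b ha hb => ?_
      obtain ⟨c, hc⟩ := H574.PslThreeFour.exists_conj hK (x := e a) (y := e b) (by rw [MulEquiv.orderOf_eq, ha])
        (by rw [MulEquiv.orderOf_eq, hb])
      refine isConj_iff.2 ⟨e.symm c, e.injective ?_⟩
      rw [map_mul, map_mul, map_inv, MulEquiv.apply_symm_apply, hc]
  · exact absurd (Subgroup.eq_top_of_card_eq M (by rw [h1, hcard])) hM

end Cfsg.Agent.H251.Small
end

private theorem dce_bf32d521aa59 : _root_.True := by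
  try have : _root_.True := by simp only [_root_.Equiv.toPEquiv.eq_1]
  exact _root_.True.intro
end

-- part: H251/Small/Main
section
set_option linter.all false
open scoped Cfsg.Agent.FastGrp

-- part: H251/Small/U42
section
/-!
# The maximal subgroups of `U₄(2)` miss a class of elements of prime order (helper251)
-/

set_option autoImplicit false

namespace Cfsg.Agent.H251.Small

open Subgroup Cfsg Matrix Cfsg.Agent.H278.El Cfsg.Agent.H396 Cfsg.Agent.OrdDiv Cfsg.Agent.H325.Loc
open Cfsg.Agent.LieClassical.HermSiegel Cfsg.Agent.LieClassical.SUBasic Cfsg.Agent.LieClassical.HermBasic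
open Cfsg.Agent.ClassicalGeometry.PSUAutBasic

/-- **Frattini**: the index of a normal subgroup of order divisible by `p` is not divisible by `r`. -/
theorem index_not_dvd {G : Type*} [Group G] [Finite G] {p r : ℕ} [Fact p.Prime] (h : PIso p r G)
    (N : Subgroup G) [N.Normal] (hN : p ∣ Nat.card N) : ¬ r ∣ N.index := by
  let P : Sylow p N := default
  have hP1 : (P : Subgroup N).map N.subtype ≠ ⊥ := by
    rw [Ne, map_eq_bot_iff_of_injective _ N.subtype_injective]
    intro h0
    exact P.ne_bot_of_dvd_card hN h0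
  have h1 := h _ (P.2.map N.subtype) hP1
  have h2 := P.normalizer_sup_eq_top
  have h3 : N.index = N.relIndex (normalizer (((P : Subgroup N).map N.subtype : Subgroup G) : Set G)) := by
    rw [← relIndex_top_right, ← h2, relIndex_sup_right]
  have h4 : N.index ∣ Nat.card (normalizer (((P : Subgroup N).map N.subtype : Subgroup G) : Set G)) := by
    rw [h3]
    exact relIndex_dvd_card _ _
  exact fun h5 => h1 (h5.trans h4)

/-- `p`-groups acted on without fixed points by an element of order `5`. -/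
theorem card_mod_five {G : Type*} [Group G] [Finite G] (R : Subgroup G) {u : G} (hu : u ^ 5 = 1)
    (hR : ∀ x ∈ R, u * x * u⁻¹ ∈ R) (hfix : ∀ x ∈ R, u * x = x * u → x = 1) : Nat.card R ≡ 1 [MOD 5] := by
  classical
  have h5 : Fact (Nat.Prime 5) := ⟨by norm_num⟩
  have : Fintype R := Fintype.ofFinite R
  let f : Function.End R := fun w => ⟨u * w * u⁻¹, hR w w.2⟩
  have hpow : ∀ (n : ℕ) (w : R), (((f ^ n : Function.End R) w : R) : G) = u ^ n * w * (u ^ n)⁻¹ := by
    intro n
    induction n with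
    | zero =>
      intro w
      rw [pow_zero, pow_zero]
      change (w : G) = 1 * w * 1⁻¹
      simp
    | succ n ih =>
      intro w
      rw [pow_succ']
      show u * (((f ^ n : Function.End R) w : R) : G) * u⁻¹ = _
      rw [ih, pow_succ']
      group
  have hf : f ^ 5 ^ 1 = 1 := by
    rw [pow_one]
    funext w
    apply Subtype.ext
    rw [hpow, hu]
    change 1 * (w : G) * 1⁻¹ = w
    simp
  have h1 := Equiv.Perm.card_fixedPoints_modEq (p := 5) (n := 1) hf
  have h3 : Fintype.card (Function.fixedPoints f) = 1 := by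
    rw [Fintype.card_eq_one_iff]
    refine ⟨⟨1, ?_⟩, ?_⟩
    · apply Subtype.ext
      show u * ((1 : R) : G) * u⁻¹ = ((1 : R) : G)
      simp
    · rintro ⟨w, hw⟩
      apply Subtype.ext
      apply Subtype.ext
      have h4 : u * (w : G) * u⁻¹ = w := congrArg Subtype.val hw
      exact hfix w w.2 (by rw [← mul_inv_eq_iff_eq_mul]; exact h4)
  rw [h3] at h1
  rw [Nat.card_eq_fintype_card]
  exact h1

variable {F : Type} [Field F] [Fintype F]

theorem card_u42 (hF : Fintype.card F = 2 ^ 2) : Nat.card (PSU 4 F 2) = 25920 := by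
  have h := S0280.result hF 4 (by norm_num)
  rw [show Nat.gcd 4 (2 + 1) = 1 by decide] at h
  simp only [Finset.prod_range_succ, Finset.prod_range_zero] at h
  norm_num only [Nat.even_iff, _root_.one_mul, _root_.ite_true, _root_.ite_false] at h
  omega

theorem selfcent_u42 (hF : Fintype.card F = 2 ^ 2) :
    ∃ R : Subgroup (PSU 4 F 2), Nat.card R = 5 ∧ centralizer (R : Set (PSU 4 F 2)) = R :=
  Cfsg.Agent.H809.SelfCent.psu_selfcent 4 2 5 (by decide) F hF

theorem cn_u42 (hF : Fintype.card F = 2 ^ 2) (P : Subgroup (PSU 4 F 2)) (hP : Nat.card P = 5) :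
    Nat.card (centralizer (P : Set (PSU 4 F 2))) ∣ 5 * 1 ∧ Nat.card (normalizer (P : Set (PSU 4 F 2))) ∣ 5 * 4 := by
  have hcard := card_u42 hF
  have : Finite (PSU 4 F 2) := Nat.finite_of_card_ne_zero (by rw [hcard]; norm_num)
  refine cent_norm (by norm_num) (by rw [hcard]; norm_num) (selfcent_u42 hF) ?_ P hP
  intro m hm _ _
  exact hm

theorem nonreal_u42 (hF : Fintype.card F = 2 ^ 2) :
    ∃ x : PSU 4 F 2, orderOf x = 3 ∧ ∀ g : PSU 4 F 2, g * x * g⁻¹ ≠ x⁻¹ := by
  obtain ⟨w, h3, h1, h0, hw, h2⟩ := exists_omega hF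
  have hd : ∏ i, (![w, w, w, 1] : Fin 4 → F) i = 1 := by
    simp only [Fin.prod_univ_four, _root_.Nat.succ_eq_add_one, _root_.Nat.reduceAdd, _root_.Fin.isValue, _root_.Matrix.cons_val_zero, _root_.Matrix.cons_val_one, _root_.Matrix.cons_val, _root_.mul_one]
    linear_combination h3
  have ha : ∀ i, (![w, w, w, 1] : Fin 4 → F) i ^ (2 + 1) = 1 := by
    intro i
    fin_cases i <;> simp [h3]
  refine ⟨pr 4 F 2 (suDiag 2 _ hd ha), ?_, not_real_of_trace hF (by norm_num) _ ?_⟩
  · have hf : Fact (Nat.Prime 3) := ⟨Nat.prime_three⟩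
    refine orderOf_eq_prime ?_ ?_
    · rw [← map_pow, suDiag_pow _ hd ha ha, map_one]
    · intro h
      obtain ⟨c, -, -, h4⟩ := mat_pr hF (by norm_num) (h.trans (map_one (pr 4 F 2)).symm)
      rw [mat_suDiag, mat_one] at h4
      have h5 := congrFun (congrFun h4 0) 0
      have h6 := congrFun (congrFun h4 3) 3
      simp at h5 h6
      rw [← h6, one_mul] at h5
      exact h1 h5.symm
  · intro c hc4 hc3
    have hc : c = 1 := by
      calc c = c * c ^ (2 + 1) := by rw [hc3, mul_one]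
        _ = c ^ 4 := by ring
        _ = 1 := hc4
    rw [hc, one_mul, mat_inv_suDiag _ hd ha ha, mat_suDiag, Matrix.trace_diagonal, Matrix.trace_diagonal]
    simp only [Fin.sum_univ_four]
    simp only [_root_.Fin.isValue, _root_.Matrix.cons_val_zero, _root_.Matrix.cons_val_one, _root_.Matrix.cons_val, _root_.mul_one, _root_.ne_eq, _root_.add_left_inj]
    intro h
    apply one_ne_zero (α := F)
    linear_combination h - 3 * hw - h2

/-- an element of order `9` and a non-cyclic abelian `3`-subgroup. -/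
theorem nine_u42 (hF : Fintype.card F = 2 ^ 2) : ∃ g : PSU 4 F 2, orderOf g = 9 := by
  obtain ⟨w, h3, h1, h0, hw, h2⟩ := exists_omega hF
  have hd : ∏ i, (![w, 1, 1, w * w] : Fin 4 → F) i = 1 := by
    simp only [Fin.prod_univ_four, _root_.Nat.succ_eq_add_one, _root_.Nat.reduceAdd, _root_.Fin.isValue, _root_.Matrix.cons_val_zero, _root_.Matrix.cons_val_one, _root_.mul_one, _root_.Matrix.cons_val]
    linear_combination h3
  have ha : ∀ i, (![w, 1, 1, w * w] : Fin 4 → F) i ^ (2 + 1) = 1 := by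
    intro i
    fin_cases i <;> simp [h3, mul_pow]
  let g : SU 4 F 2 := suDiag 2 _ hd ha * suPerm 2 (c[0, 1, 2] : Equiv.Perm (Fin 4)) (by decide +kernel)
  have hp : ∀ i j, ((c[0, 1, 2] : Equiv.Perm (Fin 4)).permMatrix F) i j =
      if (c[0, 1, 2] : Equiv.Perm (Fin 4)) i = j then 1 else 0 := by
    intro i j
    rw [Equiv.Perm.permMatrix, PEquiv.toMatrix_apply]
    simp [Equiv.toPEquiv, eq_comm]
  have q0 : (c[0, 1, 2] : Equiv.Perm (Fin 4)) 0 = 1 := by decide +kernel
  have q1 : (c[0, 1, 2] : Equiv.Perm (Fin 4)) 1 = 2 := by decide +kernel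
  have q2 : (c[0, 1, 2] : Equiv.Perm (Fin 4)) 2 = 0 := by decide +kernel
  have q3 : (c[0, 1, 2] : Equiv.Perm (Fin 4)) 3 = 3 := by decide +kernel
  have hg : mat g = !![0, w, 0, 0; 0, 0, 1, 0; 1, 0, 0, 0; 0, 0, 0, w * w] := by
    change mat (suDiag 2 _ hd ha * suPerm 2 (c[0, 1, 2] : Equiv.Perm (Fin 4)) (by decide +kernel)) = _
    rw [mat_mul, mat_suDiag]
    change Matrix.diagonal _ * (c[0, 1, 2] : Equiv.Perm (Fin 4)).permMatrix F = _
    ext i j
    rw [Matrix.diagonal_mul, hp]
    (revert i j; simp only [q0, q1, q2, q3, _root_.Fin.forall_fin_succ, Fin.isValue, _root_.mul_ite, _root_.mul_one, _root_.MulZeroClass.mul_zero, _root_.Matrix.of_apply, _root_.Matrix.cons_val', _root_.Matrix.cons_val_fin_one, _root_.Matrix.cons_val_zero, _root_.Matrix.cons_val_succ, _root_.Fin.succ_zero_eq_one, _root_.Fin.succ_one_eq_two, Fin.reduceSucc, _root_.IsEmpty.forall_iff, _root_.and_true, _root_.one_ne_zero, ↓reduceIte, Fin.reduceEq, _root_.and_self, _root_.zero_ne_one, _root_.ite_eq_right_iff,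 _root_.mul_eq_zero, _root_.or_self, _root_.ite_eq_left_iff, _root_.zero_eq_mul, _root_.not_true_eq_false])
  have hg3 : mat (g ^ 3) = Matrix.diagonal ![w, w, w, 1] := by
    rw [pow_succ, pow_two, mat_mul, mat_mul, hg]
    ext i j
    (revert i j; simp only [Matrix.mul_apply, Fin.sum_univ_four, _root_.Fin.forall_fin_succ, _root_.Nat.succ_eq_add_one, Nat.reduceAdd, _root_.Matrix.cons_mul, _root_.Matrix.vecMul_cons, _root_.Matrix.head_cons, _root_.zero_smul, _root_.Matrix.tail_cons, _root_.Matrix.smul_cons, _root_.smul_eq_mul, _root_.MulZeroClass.mul_zero, _root_.mul_one, _root_.Matrix.smul_empty, _root_.Matrix.empty_vecMul, _root_.add_zero, _root_.zero_add, _root_.one_smul, _root_.Matrix.empty_mul, _root_.Equiv.symm_apply_apply, _root_.Matrix.of_apply, _root_.Matrix.cons_val', _root_.Matrix.cons_val_fin_one, Fin.isValue, _root_.Matrix.cons_val_zero, _root_.Matrix.cons_val_one, _root_.Matrix.cons_val, _root_.Matrix.cons_val_succ, _root_.Fin.succ_zero_eq_one, _root_.Fin.succ_one_eq_two,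 Fin.reduceSucc, _root_.IsEmpty.forall_iff, _root_.Matrix.diagonal_apply_eq, _root_.MulZeroClass.zero_mul, _root_.ne_eq, _root_.zero_ne_one, _root_.not_false_eq_true, _root_.Matrix.diagonal_apply_ne, Fin.reduceEq, _root_.Fin.succ_ne_zero, _root_.one_mul, _root_.and_true, _root_.true_and]) <;> (repeat' with_reducible apply And.intro)
    linear_combination (w ^ 3 + 1) * h3
  have hg9 : g ^ 9 = 1 := by
    apply mat_injective
    rw [show g ^ 9 = g ^ 3 * g ^ 3 * g ^ 3 by group, mat_mul, mat_mul, hg3, mat_one, Matrix.diagonal_mul_diagonal,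
      Matrix.diagonal_mul_diagonal, ← Matrix.diagonal_one]
    congr 1
    funext i
    (revert i; simp only [_root_.Fin.forall_fin_succ, _root_.Nat.succ_eq_add_one, Nat.reduceAdd, Fin.isValue, _root_.Matrix.cons_val_zero, _root_.Matrix.cons_val_succ, _root_.Matrix.cons_val_fin_one, _root_.mul_one, _root_.implies_true, _root_.and_true, _root_.and_self]) <;> (repeat' with_reducible apply And.intro) <;> linear_combination h3
  have hf : Fact (Nat.Prime 3) := ⟨Nat.prime_three⟩
  refine ⟨pr 4 F 2 g, orderOf_eq_prime_pow (p := 3) (n := 1) ?_ ?_⟩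
  · intro h
    rw [pow_one, ← map_pow] at h
    obtain ⟨c, hc4, hc3, h4⟩ := mat_pr hF (by norm_num) (h.trans (map_one (pr 4 F 2)).symm)
    rw [mat_one, hg3] at h4
    have h5 := congrFun (congrFun h4 0) 0
    have h6 := congrFun (congrFun h4 3) 3
    simp at h5 h6
    rw [← h6, one_mul] at h5
    exact h1 h5.symm
  · rw [← map_pow]
    change pr 4 F 2 (g ^ 9) = 1
    rw [hg9, map_one]

/-- the group generated by two commuting elements of order `p` -/
theorem exists_nc {G : Type*} [Group G] [Finite G] {p : ℕ} (hp : p.Prime) {X Y : G} (hXY : Commute X Y)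
    (hX : orderOf X = p) (hY : Y ^ p = 1) (hne : ∀ k : ℕ, Y ≠ X ^ k) :
    ∃ A : Subgroup G, IsPGroup p A ∧ IsMulCommutative A ∧ ¬ IsCyclic A := by
  have hX3 : X ^ p = 1 := by rw [← hX, pow_orderOf_eq_one]
  have e : ∀ i j k l : ℤ, X ^ i * Y ^ j * (X ^ k * Y ^ l) = X ^ (i + k) * Y ^ (j + l) := by
    intro i j k l
    rw [_root_.zpow_add, _root_.zpow_add]
    calc X ^ i * Y ^ j * (X ^ k * Y ^ l) = X ^ i * (Y ^ j * X ^ k) * Y ^ l := by group
      _ = X ^ i * (X ^ k * Y ^ j) * Y ^ l := by rw [(hXY.symm.zpow_zpow j k).eq]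
      _ = _ := by group
  let A : Subgroup G :=
    { carrier := {g | ∃ i j : ℤ, g = X ^ i * Y ^ j}
      mul_mem' := by
        rintro _ _ ⟨i, j, rfl⟩ ⟨k, l, rfl⟩
        exact ⟨i + k, j + l, e i j k l⟩
      one_mem' := ⟨0, 0, by simp⟩
      inv_mem' := by
        rintro _ ⟨i, j, rfl⟩
        refine ⟨-i, -j, ?_⟩
        rw [_root_.mul_inv_rev, ← _root_.zpow_neg, ← _root_.zpow_neg, (hXY.symm.zpow_zpow (-j) (-i)).eq] }
  have hA : ∀ g : G, g ∈ A ↔ ∃ i j : ℤ, g = X ^ i * Y ^ j := fun g => Iff.rfl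
  have hpow : ∀ g ∈ A, g ^ p = 1 := by
    intro g hg
    obtain ⟨i, j, rfl⟩ := (hA g).1 hg
    rw [(hXY.zpow_zpow i j).mul_pow, ← zpow_natCast, ← zpow_natCast, ← _root_.zpow_mul, ← _root_.zpow_mul, mul_comm i,
      mul_comm j, _root_.zpow_mul, _root_.zpow_mul, zpow_natCast, zpow_natCast, hX3, hY, _root_.one_zpow, _root_.one_zpow, one_mul]
  have hcomm : IsMulCommutative A := by
    refine ⟨⟨fun a b => Subtype.ext ?_⟩⟩
    obtain ⟨i, j, h1⟩ := (hA _).1 a.2
    obtain ⟨k, l, h2⟩ := (hA _).1 b.2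
    change (a : G) * b = b * a
    rw [h1, h2, e, e, add_comm i, add_comm j]
  refine ⟨A, ?_, hcomm, ?_⟩
  · intro a
    exact ⟨1, Subtype.ext (by rw [pow_one]; exact hpow a a.2)⟩
  · intro hc
    have h1 : Nat.card A ∣ p := by
      rw [← IsCyclic.exponent_eq_card]
      exact Monoid.exponent_dvd_of_forall_pow_eq_one fun a => Subtype.ext (hpow a a.2)
    have h2 : zpowers X ≤ A := by
      rw [zpowers_le]
      exact (hA X).2 ⟨1, 0, by simp⟩
    have h3 : zpowers X = A := Subgroup.eq_of_le_of_card_ge h2 (by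
      rw [Nat.card_zpowers, hX]
      exact Nat.le_of_dvd hp.pos h1)
    have h4 : Y ∈ zpowers X := by
      rw [h3]
      exact (hA Y).2 ⟨0, 1, by simp⟩
    obtain ⟨k, hk⟩ := (mem_powers_iff_mem_zpowers.2 h4)
    exact hne k hk.symm

/-- a non-cyclic abelian `3`-subgroup. -/
theorem nc_u42 (hF : Fintype.card F = 2 ^ 2) : ∃ A : Subgroup (PSU 4 F 2), IsPGroup 3 A ∧ IsMulCommutative A ∧
    ¬ IsCyclic A := by
  obtain ⟨w, h3, h1, h0, hw, h2⟩ := exists_omega hF
  have hd : ∏ i, (![w, w * w, 1, 1] : Fin 4 → F) i = 1 := by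
    simp only [Fin.prod_univ_four, _root_.Nat.succ_eq_add_one, _root_.Nat.reduceAdd, _root_.Fin.isValue, _root_.Matrix.cons_val_zero, _root_.Matrix.cons_val_one, _root_.Matrix.cons_val, _root_.mul_one]
    linear_combination h3
  have ha : ∀ i, (![w, w * w, 1, 1] : Fin 4 → F) i ^ (2 + 1) = 1 := by
    intro i
    fin_cases i <;> simp [h3, mul_pow]
  have hd' : ∏ i, (![1, 1, w, w * w] : Fin 4 → F) i = 1 := by
    simp only [Fin.prod_univ_four, _root_.Nat.succ_eq_add_one, _root_.Nat.reduceAdd, _root_.Fin.isValue, _root_.Matrix.cons_val_zero, _root_.Matrix.cons_val_one, _root_.mul_one, _root_.Matrix.cons_val, _root_.one_mul]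
    linear_combination h3
  have ha' : ∀ i, (![1, 1, w, w * w] : Fin 4 → F) i ^ (2 + 1) = 1 := by
    intro i
    (revert i; simp only [h3, mul_pow, _root_.Fin.forall_fin_succ, _root_.Nat.succ_eq_add_one, Nat.reduceAdd, Fin.isValue, _root_.Matrix.cons_val_zero, _root_.one_pow, _root_.Matrix.cons_val_succ, _root_.Matrix.cons_val_fin_one, _root_.mul_one, _root_.implies_true, _root_.and_self])
  let x : SU 4 F 2 := suDiag 2 _ hd ha
  let y : SU 4 F 2 := suDiag 2 _ hd' ha'
  have hxy : Commute x y := by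
    apply mat_injective
    rw [mat_mul, mat_mul]
    change Matrix.diagonal _ * Matrix.diagonal _ = Matrix.diagonal _ * Matrix.diagonal _
    rw [Matrix.diagonal_mul_diagonal, Matrix.diagonal_mul_diagonal]
    congr 1
    funext i
    exact mul_comm _ _
  have hx3 : x ^ 3 = 1 := suDiag_pow _ hd ha ha
  have hy3 : y ^ 3 = 1 := suDiag_pow _ hd' ha' ha'
  have hf : Fact (Nat.Prime 3) := ⟨Nat.prime_three⟩
  have hpx : ∀ k : ℕ, mat (x ^ k) = Matrix.diagonal ((![w, w * w, 1, 1] : Fin 4 → F) ^ k) := by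
    intro k
    induction k with
    | zero => rw [pow_zero, pow_zero, mat_one]; exact Matrix.diagonal_one.symm
    | succ k ih =>
      rw [pow_succ, pow_succ, mat_mul, ih]
      change _ * Matrix.diagonal _ = _
      rw [Matrix.diagonal_mul_diagonal]
      rfl
  have hcard := card_u42 hF
  have : Finite (PSU 4 F 2) := Nat.finite_of_card_ne_zero (by rw [hcard]; norm_num)
  refine exists_nc Nat.prime_three (X := pr 4 F 2 x) (Y := pr 4 F 2 y) (hxy.map (pr 4 F 2)) ?_ ?_ ?_
  · refine orderOf_eq_prime (by rw [← map_pow, hx3, map_one]) ?_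
    intro h
    obtain ⟨c, -, -, h4⟩ := mat_pr hF (by norm_num) (h.trans (map_one (pr 4 F 2)).symm)
    rw [mat_one] at h4
    change 1 = c • Matrix.diagonal _ at h4
    have h5 := congrFun (congrFun h4 0) 0
    have h6 := congrFun (congrFun h4 3) 3
    simp at h5 h6
    rw [← h6, one_mul] at h5
    exact h1 h5.symm
  · rw [← map_pow, hy3, map_one]
  · intro k hk
    rw [← map_pow] at hk
    obtain ⟨c, -, -, h4⟩ := mat_pr hF (by norm_num) hk
    rw [hpx] at h4
    change Matrix.diagonal _ = c • Matrix.diagonal _ at h4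
    have h5 := congrFun (congrFun h4 2) 2
    have h6 := congrFun (congrFun h4 3) 3
    simp at h5 h6
    apply h1
    calc w = c * w * w := by rw [← h5, one_mul]
      _ = 1 := by rw [mul_assoc]; exact h6.symm

theorem pow3_le {k : ℕ} (h : 3 ^ k ∣ 25920) : k ≤ 4 := by
  by_contra hcon
  push Not at hcon
  have h1 := (pow_dvd_pow 3 hcon).trans h
  norm_num at h1

/-- `5` does not divide the order of a `3`-local subgroup. -/
theorem piso35 (hF : Fintype.card F = 2 ^ 2) : PIso 3 5 (PSU 4 F 2) := by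
  have hcard := card_u42 hF
  have hfin : Finite (PSU 4 F 2) := Nat.finite_of_card_ne_zero (by rw [hcard]; norm_num)
  have hf3 : Fact (Nat.Prime 3) := ⟨Nat.prime_three⟩
  have hf5 : Fact (Nat.Prime 5) := ⟨by norm_num⟩
  intro Q hQ hQ1 h5
  obtain ⟨⟨u, huQ⟩, hu⟩ := exists_prime_orderOf_dvd_card' 5 h5
  rw [Subgroup.orderOf_mk] at hu
  have hu5 : u ^ 5 = 1 := by rw [← hu, pow_orderOf_eq_one]
  have hcu := (cn_u42 hF (zpowers u) (by rw [Nat.card_zpowers, hu])).1
  have hfix : ∀ x ∈ Q, u * x = x * u → x = 1 := by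
    intro x hx hux
    have h1 : x ∈ centralizer ((zpowers u : Subgroup (PSU 4 F 2)) : Set (PSU 4 F 2)) := by
      rw [Subgroup.mem_centralizer_iff]
      rintro _ ⟨k, rfl⟩
      have h2 : Commute u x := hux
      exact (h2.zpow_left k).eq
    have h2 := (Subgroup.orderOf_dvd_natCard _ h1).trans hcu
    obtain ⟨k, hk⟩ := (IsPGroup.iff_orderOf.1 hQ) ⟨x, hx⟩
    rw [Subgroup.orderOf_mk] at hk
    rw [hk] at h2
    have h3 : k = 0 := by
      by_contra hk0
      have h4 : 3 ∣ 5 * 1 := (dvd_pow_self 3 hk0).trans h2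
      norm_num at h4
    rw [h3, pow_zero] at hk
    exact orderOf_eq_one_iff.1 hk
  have key : ∀ R : Subgroup (PSU 4 F 2), R ≤ Q → (∀ x ∈ R, u * x * u⁻¹ ∈ R) → R ≠ ⊥ → Nat.card R = 81 := by
    intro R hRQ hR hR1
    have h1 := card_mod_five R hu5 hR fun x hx => hfix x (hRQ hx)
    obtain ⟨k, hk⟩ := IsPGroup.iff_card.1 (hQ.to_le hRQ)
    have h2 : Nat.card R ∣ 25920 := by rw [← hcard]; exact Subgroup.card_subgroup_dvd_card _
    rw [hk] at h1 h2 ⊢
    have h3 := pow3_le h2
    interval_cases k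
    · rw [pow_zero] at hk
      exact absurd (Subgroup.card_eq_one.1 hk) hR1
    · exact absurd h1 (by decide)
    · exact absurd h1 (by decide)
    · exact absurd h1 (by decide)
    · norm_num
  have hmem : ∀ x ∈ Q, u * x * u⁻¹ ∈ Q := fun x hx => (mem_normalizer_iff.1 huQ x).1 hx
  let R : Subgroup (PSU 4 F 2) :=
    { carrier := {x | x ∈ Q ∧ (∀ y ∈ Q, x * y = y * x) ∧ x ^ 3 = 1}
      one_mem' := ⟨Q.one_mem, fun y _ => by rw [one_mul, mul_one], one_pow 3⟩
      mul_mem' := by
        rintro a b ⟨ha, ha', ha3⟩ ⟨hb, hb', hb3⟩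
        refine ⟨Q.mul_mem ha hb, fun y hy => ?_, ?_⟩
        · rw [mul_assoc, hb' y hy, ← mul_assoc, ha' y hy, mul_assoc]
        · have : Commute a b := ha' b hb
          rw [this.mul_pow, ha3, hb3, one_mul]
      inv_mem' := by
        rintro a ⟨ha, ha', ha3⟩
        refine ⟨Q.inv_mem ha, fun y hy => ?_, by rw [inv_pow, ha3, inv_one]⟩
        have : Commute a y := ha' y hy
        exact this.inv_left.eq }
  have hRQ : R ≤ Q := fun x hx => hx.1
  have hRinv : ∀ x ∈ R, u * x * u⁻¹ ∈ R := by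
    rintro x ⟨hx, hx', hx3⟩
    refine ⟨hmem x hx, fun y hy => ?_, ?_⟩
    · have h1 : u⁻¹ * y * u ∈ Q := by
        have h2 := (mem_normalizer_iff.1 huQ (u⁻¹ * y * u)).2 (by
          have : u * (u⁻¹ * y * u) * u⁻¹ = y := by group
          rw [this]; exact hy)
        exact h2
      have h2 := hx' _ h1
      calc u * x * u⁻¹ * y = u * (x * (u⁻¹ * y * u)) * u⁻¹ := by group
        _ = u * (u⁻¹ * y * u * x) * u⁻¹ := by rw [h2]
        _ = y * (u * x * u⁻¹) := by group
    · rw [conj_pow, hx3, mul_one, mul_inv_cancel]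
  have hR1 : R ≠ ⊥ := by
    intro h0
    have hnt : Nontrivial Q := (Subgroup.nontrivial_iff_ne_bot Q).2 hQ1
    have hz := hQ.center_nontrivial
    obtain ⟨k, hk⟩ := IsPGroup.iff_card.1 (hQ.to_subgroup (Subgroup.center Q))
    have hk0 : k ≠ 0 := by
      rintro rfl
      rw [pow_zero] at hk
      have h2 := Finite.one_lt_card_iff_nontrivial.2 hz
      omega
    obtain ⟨z, hz3⟩ := exists_prime_orderOf_dvd_card' (G := Subgroup.center Q) 3 (by rw [hk]; exact dvd_pow_self 3 hk0)
    have h1 : ((z : Q) : PSU 4 F 2) ∈ R := by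
      refine ⟨(z : Q).2, fun y hy => ?_, ?_⟩
      · exact (congrArg Subtype.val (Subgroup.mem_center_iff.1 z.2 ⟨y, hy⟩)).symm
      · have h2 : z ^ 3 = 1 := by simp only [← hz3, pow_orderOf_eq_one]
        have h3 := congrArg (fun t : Subgroup.center Q => ((t : Q) : PSU 4 F 2)) h2
        simpa only [_root_.SubmonoidClass.coe_pow, _root_.OneMemClass.coe_one] using h3
    rw [h0, Subgroup.mem_bot] at h1
    have h2 : z = 1 := Subtype.ext (Subtype.ext h1)
    rw [h2, orderOf_one] at hz3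
    norm_num at hz3
  have hR81 := key R hRQ hRinv hR1
  have hQ81 := key Q le_rfl hmem hQ1
  have hRe : R = Q := Subgroup.eq_of_le_of_card_ge hRQ (by rw [hR81, hQ81])
  -- `Q` is a Sylow subgroup
  obtain ⟨P, hP⟩ := hQ.exists_le_sylow
  have hPQ : Q = (P : Subgroup (PSU 4 F 2)) := by
    refine Subgroup.eq_of_le_of_card_ge hP ?_
    obtain ⟨k, hk⟩ := IsPGroup.iff_card.1 P.2
    have h2 : Nat.card P ∣ 25920 := by rw [← hcard]; exact Subgroup.card_subgroup_dvd_card _
    rw [hk] at h2 ⊢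
    rw [hQ81]
    exact Nat.pow_le_pow_right (by norm_num) (pow3_le h2)
  obtain ⟨g, hg⟩ := nine_u42 hF
  have hgp : IsPGroup 3 (zpowers g) := IsPGroup.of_card (n := 2) (by rw [Nat.card_zpowers, hg]; norm_num)
  obtain ⟨P', hP'⟩ := hgp.exists_le_sylow
  obtain ⟨t, ht⟩ := MulAction.exists_smul_eq (PSU 4 F 2) P' P
  have h2 : t * g * t⁻¹ ∈ (P : Subgroup (PSU 4 F 2)) := by
    rw [← ht, Sylow.coe_subgroup_smul, Subgroup.mem_pointwise_smul_iff_inv_smul_mem, ← map_inv,
      MulAut.smul_def, MulAut.conj_apply, inv_inv]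
    have : t⁻¹ * (t * g * t⁻¹) * t = g := by group
    rw [this]
    exact hP' (mem_zpowers g)
  rw [← hPQ, ← hRe] at h2
  have h3 := h2.2.2
  rw [conj_pow, mul_inv_eq_one, mul_eq_left] at h3
  have h4 := orderOf_dvd_of_pow_eq_one h3
  rw [hg] at h4
  norm_num at h4

/-- `3` does not divide the order of a `5`-local subgroup. -/
theorem piso53 (hF : Fintype.card F = 2 ^ 2) : PIso 5 3 (PSU 4 F 2) := by
  have hcard := card_u42 hF
  have hfin : Finite (PSU 4 F 2) := Nat.finite_of_card_ne_zero (by rw [hcard]; norm_num)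
  have hf5 : Fact (Nat.Prime 5) := ⟨by norm_num⟩
  intro Q hQ hQ1 h3
  obtain ⟨k, hk⟩ := IsPGroup.iff_card.1 hQ
  have h2 : Nat.card Q ∣ 25920 := by rw [← hcard]; exact Subgroup.card_subgroup_dvd_card _
  rw [hk] at h2
  have h4 : k = 1 := by
    have h5 : k < 2 := by
      by_contra hcon
      push Not at hcon
      have h1 := (pow_dvd_pow 5 hcon).trans h2
      norm_num at h1
    interval_cases k
    · rw [pow_zero] at hk
      exact absurd (Subgroup.card_eq_one.1 hk) hQ1
    · rfl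
  rw [h4, pow_one] at hk
  have h5 := h3.trans (cn_u42 hF Q hk).2
  norm_num at h5

/-- `27` does not divide the order of a proper subgroup of order divisible by `30`. -/
theorem not_27 (OT : OrderTable.{0}) (hS : ∀ (X : Type) [Group X] [Finite X] [IsSimpleGroup X], Cfsg.IsKnownSimple' X)
    (hF : Fintype.card F = 2 ^ 2) (M : Subgroup (PSU 4 F 2)) (hM : M ≠ ⊤) (hall : ∀ r ∈ [2, 3, 5], r ∣ Nat.card M) :
    Nat.card M ∈ [60, 120, 360, 720, 960] := by
  have hcard := card_u42 hF
  have hfin : Finite (PSU 4 F 2) := Nat.finite_of_card_ne_zero (by rw [hcard]; norm_num)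
  have hf3 : Fact (Nat.Prime 3) := ⟨Nat.prime_three⟩
  have hf5 : Fact (Nat.Prime 5) := ⟨by norm_num⟩
  have hv : valid [(2, 6), (3, 4), (5, 1)] 25920 = true := by decide +kernel
  have htbl : ((cands [(2, 6), (3, 4), (5, 1)] 25920).all fun g => [60, 360, 25920].contains (ordN g)) = true := by
    decide +kernel
  have D : H970.StabNum.Data (PSU 4 F 2) [(5, 1, 4)] [2, 3] [60, 360, 25920] := by
    refine H970.TwoSpor.mk_data OT hS hcard hv (by decide +kernel) ?_ ?_ htbl ?_
    · intro x hx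
      simp only [List.mem_cons, List.not_mem_nil, or_false] at hx
      subst hx
      norm_num
    · intro r hr
      simp only [List.mem_cons, List.not_mem_nil, or_false] at hr
      rcases hr with rfl | rfl <;> norm_num
    · intro x hx P hP
      simp only [List.mem_cons, List.not_mem_nil, or_false] at hx
      subst hx
      exact cn_u42 hF P hP
  have h1 := mem_surv D (by rw [hcard]; exact hv) M hall
  rw [show surv [(5, 1, 4)] [2, 3] [60, 360, 25920] [(2, 6), (3, 4), (5, 1)] [2, 3, 5] =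
    [810, 60, 1620, 120, 360, 720, 6480, 12960, 960, 25920] by decide +kernel] at h1
  simp only [List.mem_cons, List.not_mem_nil, or_false] at h1 ⊢
  have hne : Nat.card M ≠ 25920 := fun h => hM (Subgroup.eq_top_of_card_eq M (by rw [h, hcard]))
  by_contra hcon
  have h81 : 81 ∣ Nat.card M := by
    have h2 : Nat.card M = 810 ∨ Nat.card M = 1620 ∨ Nat.card M = 6480 ∨ Nat.card M = 12960 := by omega
    rcases h2 with h | h | h | h <;> rw [h] <;> norm_num
  -- a non-cyclic abelian subgroup of `M`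
  obtain ⟨A, hA, hab, hcyc⟩ := nc_u42 hF
  obtain ⟨B, hB, hBab, hBcyc⟩ : ∃ B : Subgroup M, IsPGroup 3 B ∧ IsMulCommutative B ∧ ¬ IsCyclic B := by
    let P : Sylow 3 M := default
    have hP81 : 81 ∣ Nat.card P := by
      have h2 : 3 ^ 4 ∣ Nat.card M := h81
      exact P.pow_dvd_card_of_pow_dvd_card h2
    have hP' : IsPGroup 3 ((P : Subgroup M).map M.subtype) := P.2.map _
    obtain ⟨S, hS'⟩ := hP'.exists_le_sylow
    have hcP : Nat.card ((P : Subgroup M).map M.subtype) = Nat.card P :=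
      (Nat.card_congr ((P : Subgroup M).equivMapOfInjective _ M.subtype_injective).toEquiv).symm
    have hSP : (P : Subgroup M).map M.subtype = (S : Subgroup (PSU 4 F 2)) := by
      refine Subgroup.eq_of_le_of_card_ge hS' ?_
      rw [hcP]
      obtain ⟨k, hk⟩ := IsPGroup.iff_card.1 S.2
      have h2 : Nat.card S ∣ 25920 := by rw [← hcard]; exact Subgroup.card_subgroup_dvd_card _
      rw [hk] at h2 ⊢
      have h3 := Nat.pow_le_pow_right (show 0 < 3 by norm_num) (pow3_le h2)
      have h4 := Nat.le_of_dvd Nat.card_pos hP81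
      omega
    obtain ⟨S', hAS'⟩ := hA.exists_le_sylow
    obtain ⟨t, ht⟩ := MulAction.exists_smul_eq (PSU 4 F 2) S' S
    have hAM : A.map (MulAut.conj t).toMonoidHom ≤ M := by
      rintro _ ⟨x, hx, rfl⟩
      have h2 : t * x * t⁻¹ ∈ (S : Subgroup (PSU 4 F 2)) := by
        rw [← ht, Sylow.coe_subgroup_smul, Subgroup.mem_pointwise_smul_iff_inv_smul_mem, ← map_inv,
          MulAut.smul_def, MulAut.conj_apply, inv_inv]
        have : t⁻¹ * (t * x * t⁻¹) * t = x := by group
        rw [this]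
        exact hAS' hx
      rw [← hSP] at h2
      obtain ⟨y, -, hy⟩ := h2
      change t * x * t⁻¹ ∈ M
      rw [← hy]
      exact y.2
    let e : A ≃* (A.map (MulAut.conj t).toMonoidHom).subgroupOf M :=
      (A.equivMapOfInjective (MulAut.conj t).toMonoidHom (MulAut.conj t).injective).trans
        (Subgroup.subgroupOfEquivOfLe hAM).symm
    refine ⟨_, hA.of_equiv e, ?_, ?_⟩
    · refine ⟨⟨fun a b => ?_⟩⟩
      apply e.symm.injective
      rw [map_mul, map_mul]
      exact hab.is_comm.comm _ _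
    · intro hc
      exact hcyc (isCyclic_of_surjective e.symm e.symm.surjective)
  have h35 : PIso 3 5 M := (piso35 hF).sub M
  have h53 : PIso 5 3 M := (piso53 hF).sub M
  obtain ⟨O, hO, -, hO3, S, hSn, hSs, hSc, -, -, hSp⟩ := almost_simple h35 (by norm_num) (by norm_num)
    (hall 5 (by simp)) hB hBab hBcyc
  obtain ⟨hO5, hS5, -⟩ := hSp 5 (by norm_num) (by norm_num) h35 (hall 5 (by simp))
  have h53q : PIso 5 3 (M ⧸ O) := h53.quotient Nat.prime_three (by norm_num) O hO3
  have hidx := index_not_dvd h53q S hS5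
  have hM1 : Nat.card M = Nat.card (M ⧸ O) * Nat.card O := card_eq_card_quotient_mul_card_subgroup O
  have hM2 := S.card_mul_index
  have hMdvd : Nat.card M ∣ 25920 := by rw [← hcard]; exact Subgroup.card_subgroup_dvd_card _
  have hSdvd : Nat.card S ∣ 25920 := by
    refine dvd_trans ?_ hMdvd
    rw [hM1, ← hM2, mul_assoc]
    exact Dvd.intro _ rfl
  have h2 : Nat.card S ∈ [60, 360, 25920] := H970.StabNum.mem_tbl OT hS hv htbl S hSs
    (fun h => hSc ⟨⟨h⟩⟩) hSdvd
  have h3 : 81 ∣ Nat.card S := by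
    have h4 : 3 ^ 4 ∣ Nat.card S * (S.index * Nat.card O) := by
      rw [← mul_assoc, hM2, ← hM1]
      exact h81
    have hc1 : Nat.Coprime 3 S.index := (Nat.Prime.coprime_iff_not_dvd Nat.prime_three).2 hidx
    have hc2 : Nat.Coprime 3 (Nat.card O) := (Nat.Prime.coprime_iff_not_dvd Nat.prime_three).2 hO3
    have hc : Nat.Coprime (3 ^ 4) (S.index * Nat.card O) :=
      Nat.Coprime.pow_left 4 (Nat.Coprime.mul_right hc1 hc2)
    exact hc.dvd_of_dvd_mul_right h4
  simp only [List.mem_cons, List.not_mem_nil, or_false] at h2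
  rcases h2 with h2 | h2 | h2
  · rw [h2] at h3; norm_num at h3
  · rw [h2] at h3; norm_num at h3
  · apply hne
    apply Nat.dvd_antisymm hMdvd
    rw [← h2, hM1, ← hM2, mul_assoc]
    exact Dvd.intro _ rfl

/-- **Every proper subgroup of `U₄(2)` misses a class (up to automorphisms) of elements of prime order.** -/
theorem u42 (OT : OrderTable.{0}) (hS : ∀ (X : Type) [Group X] [Finite X] [IsSimpleGroup X], Cfsg.IsKnownSimple' X)
    (hF : Fintype.card F = 2 ^ 2) (M : Subgroup (PSU 4 F 2)) (hM : M ≠ ⊤) : Der (PSU 4 F 2) M := by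
  have hcard := card_u42 hF
  have hfin : Finite (PSU 4 F 2) := Nat.finite_of_card_ne_zero (by rw [hcard]; norm_num)
  by_cases hall : ∀ r ∈ [2, 3, 5], r ∣ Nat.card M
  swap
  · push Not at hall
    obtain ⟨r, hr, hrM⟩ := hall
    simp only [List.mem_cons, List.not_mem_nil, or_false] at hr
    refine der_of_prime (v := r) ?_ ?_ hrM
    · rcases hr with rfl | rfl | rfl <;> norm_num
    · rw [hcard]
      rcases hr with rfl | rfl | rfl <;> norm_num
  have h1 := not_27 OT hS hF M hM hall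
  simp only [List.mem_cons, List.not_mem_nil, or_false] at h1
  have h27 : ¬ 27 ∣ Nat.card M := by
    rcases h1 with h | h | h | h | h <;> rw [h] <;> norm_num
  obtain ⟨x, hx, hx'⟩ := nonreal_u42 hF
  refine der_of_real Nat.prime_three hx hx' fun y hy => ?_
  have hf3 : Fact (Nat.Prime 3) := ⟨Nat.prime_three⟩
  have hf5 : Fact (Nat.Prime 5) := ⟨by norm_num⟩
  let P : Sylow 3 M := default
  refine real_of_nine P ?_ (fun N hN hidx => ?_) hy
  · obtain ⟨k, hk⟩ := IsPGroup.iff_card.1 P.2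
    have h1 : Nat.card P ∣ Nat.card M := Subgroup.card_subgroup_dvd_card _
    rw [hk] at h1 ⊢
    have h2 : k ≤ 2 := by
      by_contra hcon
      push Not at hcon
      exact h27 ((pow_dvd_pow 3 hcon).trans h1)
    exact pow_dvd_pow 3 h2
  · refine index_not_dvd (p := 5) (r := 3) ((piso53 hF).sub M) N ?_ (by rw [hidx])
    have h2 : 5 ∣ Nat.card N * N.index := by rw [N.card_mul_index]; exact hall 5 (by simp)
    rw [hidx] at h2
    exact (Nat.Coprime.dvd_of_dvd_mul_right (by norm_num) h2)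

end Cfsg.Agent.H251.Small
end

-- part: H251/Small/Main
section
/-!
# The small unitary groups `U₄(2)`, `U₄(3)`, `U₅(2)`, `U₆(2)` (helper251, TEAM ELUSIVE)

* `clMaxA_u42`, `clMaxA_u43`, `clMaxA_u5`, `clMaxA_u6` : every maximal subgroup misses an `Aut`-class of elements of
  prime order.
* `pgap_u5`, `pgap_u6`, `pgap_u43`, `pgap_u42` : a proper subgroup misses a prime, or is one of the special ones.
-/

set_option autoImplicit false

namespace Cfsg.Agent.H251.Small

open Cfsg Cfsg.Agent.H396 Cfsg.Agent.OrdDiv Cfsg.Agent.H970.StabNum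
open Cfsg.Agent.H278.El Cfsg.Agent.H938.Sax

variable {F : Type} [Field F] [Fintype F]

theorem clMaxA_u42 (OT : OrderTable.{0})
    (hS : ∀ (X : Type) [Group X] [Finite X] [IsSimpleGroup X], Cfsg.IsKnownSimple' X)
    (hF : Fintype.card F = 2 ^ 2) : ClMaxA (PSU 4 F 2) :=
  fun M hM => u42 OT hS hF M hM.1

theorem clMaxA_u43 (OT : OrderTable.{0})
    (hS : ∀ (X : Type) [Group X] [Finite X] [IsSimpleGroup X], Cfsg.IsKnownSimple' X)
    (hF : Fintype.card F = 3 ^ 2) : ClMaxA (PSU 4 F 3) :=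
  fun M hM => u43 OT hS hF M hM.1

theorem clMaxA_u5 (OT : OrderTable.{0})
    (hS : ∀ (X : Type) [Group X] [Finite X] [IsSimpleGroup X], Cfsg.IsKnownSimple' X)
    (hF : Fintype.card F = 2 ^ 2) : ClMaxA (PSU 5 F 2) :=
  fun M hM => u5 OT hS hF M hM.1

theorem clMaxA_u6 (OT : OrderTable.{0})
    (hS : ∀ (X : Type) [Group X] [Finite X] [IsSimpleGroup X], Cfsg.IsKnownSimple' X)
    (hF : Fintype.card F = 2 ^ 2) : ClMaxA (PSU 6 F 2) :=
  fun M hM => u6 OT hS hF M hM.1

/-- A proper subgroup of `U₄(2)` misses a prime or its order is `60`, `120`, `360`, `720` or `960`. -/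
theorem pgap_u42 (OT : OrderTable.{0})
    (hS : ∀ (X : Type) [Group X] [Finite X] [IsSimpleGroup X], Cfsg.IsKnownSimple' X)
    (hF : Fintype.card F = 2 ^ 2) (M : Subgroup (PSU 4 F 2)) (hM : M ≠ ⊤) :
    PGap (PSU 4 F 2) M ∨ Nat.card M ∈ [60, 120, 360, 720, 960] := by
  by_cases hall : ∀ r ∈ [2, 3, 5], r ∣ Nat.card M
  · exact Or.inr (not_27 OT hS hF M hM hall)
  · push Not at hall
    obtain ⟨r, hr, hrM⟩ := hall
    simp only [List.mem_cons, List.not_mem_nil, or_false] at hr
    refine Or.inl ⟨r, ?_, ?_, hrM⟩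
    · rcases hr with rfl | rfl | rfl <;> norm_num
    · rw [card_u42 hF]
      rcases hr with rfl | rfl | rfl <;> norm_num

/-- A proper subgroup of `U₅(2)` misses a prime or is simple of order `660` or `7920`. -/
theorem pgap_u5 (OT : OrderTable.{0})
    (hS : ∀ (X : Type) [Group X] [Finite X] [IsSimpleGroup X], Cfsg.IsKnownSimple' X)
    (hF : Fintype.card F = 2 ^ 2) (M : Subgroup (PSU 5 F 2)) (hM : M ≠ ⊤) :
    PGap (PSU 5 F 2) M ∨ (IsSimpleGroup M ∧ (Nat.card M = 660 ∨ Nat.card M = 7920)) := by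
  have hcard := card_u5 hF
  have : Finite (PSU 5 F 2) := Nat.finite_of_card_ne_zero (by rw [hcard]; norm_num)
  by_cases hall : ∀ r ∈ [2, 3, 5, 11], r ∣ Nat.card M
  swap
  · push Not at hall
    obtain ⟨r, hr, hrM⟩ := hall
    simp only [List.mem_cons, List.not_mem_nil, or_false] at hr
    refine Or.inl ⟨r, ?_, ?_, hrM⟩
    · rcases hr with rfl | rfl | rfl | rfl <;> norm_num
    · rw [hcard]
      rcases hr with rfl | rfl | rfl | rfl <;> norm_num
  right
  have hv : valid [(2, 10), (3, 5), (5, 1), (11, 1)] 13685760 = true := by decide +kernel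
  have D : H970.StabNum.Data (PSU 5 F 2) [(11, 1, 5)] [2, 3, 5] tbl5 := by
    refine H970.TwoSpor.mk_data OT hS hcard hv (by decide +kernel) ?_ ?_ (by decide +kernel) ?_
    · intro x hx
      simp only [List.mem_cons, List.not_mem_nil, or_false] at hx
      subst hx
      norm_num
    · intro r hr
      simp only [List.mem_cons, List.not_mem_nil, or_false] at hr
      rcases hr with rfl | rfl | rfl <;> norm_num
    · intro x hx P hP
      simp only [List.mem_cons, List.not_mem_nil, or_false] at hx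
      subst hx
      refine cent_norm (by norm_num) (by rw [hcard]; norm_num) (selfcent_u5 hF) ?_ P hP
      intro m hm _ hmod
      rw [hcard] at hmod
      have h1 : m ∈ Nat.divisors 10 := Nat.mem_divisors.2 ⟨hm, by norm_num⟩
      rw [show Nat.divisors 10 = {1, 2, 5, 10} by decide] at h1
      simp only [Finset.mem_insert, Finset.mem_singleton] at h1
      rcases h1 with rfl | rfl | rfl | rfl
      · norm_num at hmod
      · norm_num at hmod
      · norm_num
      · norm_num at hmod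
  have h1 := mem_surv D (by rw [hcard]; exact hv) M hall
  rw [show surv [(11, 1, 5)] [2, 3, 5] tbl5 [(2, 10), (3, 5), (5, 1), (11, 1)] [2, 3, 5, 11] =
    [660, 7920, 95040, 13685760] by decide +kernel] at h1
  simp only [List.mem_cons, List.not_mem_nil, or_false] at h1
  rcases h1 with h1 | h1 | h1 | h1
  · obtain ⟨hs, -⟩ := simple_of D M (p := 11) (k := 1) (M := 5) (by simp) h1 (by norm_num) (by norm_num)
      (by decide +kernel)
    exact ⟨hs, Or.inl h1⟩
  · obtain ⟨hs, -⟩ := simple_of D M (p := 11) (k := 1) (M := 5) (by simp) h1 (by norm_num) (by norm_num)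
      (by decide +kernel)
    exact ⟨hs, Or.inr h1⟩
  · exfalso
    obtain ⟨hs, hna⟩ := simple_of D M (p := 11) (k := 1) (M := 5) (by simp) h1 (by norm_num) (by norm_num)
      (by decide +kernel)
    obtain ⟨g, hg, hr⟩ := exists_real_filter OT (hS M) hna (l := [(2, 6), (3, 3), (5, 1), (11, 1)]) (N := 95040)
      (by decide +kernel) (by rw [h1]) (fun o => Nat.beq o 95040) (by rw [h1]; rfl)
    rw [show ((cands [(2, 6), (3, 3), (5, 1), (11, 1)] 95040).filter fun g => Nat.beq (ordN g) 95040) = [.m12] by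
      decide +kernel] at hg
    rw [List.mem_singleton] at hg
    subst hg
    obtain ⟨e⟩ := hr
    obtain ⟨z, hz⟩ := ten_M12
    refine no_ten hF ((e.symm z : M) : PSU 5 F 2) ?_
    rw [Subgroup.orderOf_coe, MulEquiv.orderOf_eq, hz]
  · exact absurd (Subgroup.eq_top_of_card_eq M (by rw [h1, hcard])) hM

/-- A proper subgroup of `U₆(2)` misses a prime or is isomorphic to `M₂₂`. -/
theorem pgap_u6 (OT : OrderTable.{0})
    (hS : ∀ (X : Type) [Group X] [Finite X] [IsSimpleGroup X], Cfsg.IsKnownSimple' X)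
    (hF : Fintype.card F = 2 ^ 2) (M : Subgroup (PSU 6 F 2)) (hM : M ≠ ⊤) :
    PGap (PSU 6 F 2) M ∨ Spor.IsoM22 M := by
  have hcard := card_u6 hF
  have : Finite (PSU 6 F 2) := Nat.finite_of_card_ne_zero (by rw [hcard]; norm_num)
  by_cases hall : ∀ r ∈ [2, 3, 5, 7, 11], r ∣ Nat.card M
  swap
  · push Not at hall
    obtain ⟨r, hr, hrM⟩ := hall
    simp only [List.mem_cons, List.not_mem_nil, or_false] at hr
    refine Or.inl ⟨r, ?_, ?_, hrM⟩
    · rcases hr with rfl | rfl | rfl | rfl | rfl <;> norm_num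
    · rw [hcard]
      rcases hr with rfl | rfl | rfl | rfl | rfl <;> norm_num
  right
  have hv : valid [(2, 15), (3, 6), (5, 1), (7, 1), (11, 1)] 9196830720 = true := by decide +kernel
  have D : H970.StabNum.Data (PSU 6 F 2) [(11, 1, 5)] [2, 3, 5, 7] tbl6 := by
    refine H970.TwoSpor.mk_data OT hS hcard hv (by decide +kernel) ?_ ?_ (by decide +kernel) ?_
    · intro x hx
      simp only [List.mem_cons, List.not_mem_nil, or_false] at hx
      subst hx
      norm_num
    · intro r hr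
      simp only [List.mem_cons, List.not_mem_nil, or_false] at hr
      rcases hr with rfl | rfl | rfl | rfl <;> norm_num
    · intro x hx P hP
      simp only [List.mem_cons, List.not_mem_nil, or_false] at hx
      subst hx
      refine cent_norm (by norm_num) (by rw [hcard]; norm_num) (selfcent_u6 hF) ?_ P hP
      intro m hm _ hmod
      rw [hcard] at hmod
      have h1 : m ∈ Nat.divisors 10 := Nat.mem_divisors.2 ⟨hm, by norm_num⟩
      rw [show Nat.divisors 10 = {1, 2, 5, 10} by decide] at h1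
      simp only [Finset.mem_insert, Finset.mem_singleton] at h1
      rcases h1 with rfl | rfl | rfl | rfl
      · norm_num at hmod
      · norm_num at hmod
      · norm_num
      · norm_num at hmod
  have h1 := mem_surv D (by rw [hcard]; exact hv) M hall
  rw [show surv [(11, 1, 5)] [2, 3, 5, 7] tbl6 [(2, 15), (3, 6), (5, 1), (7, 1), (11, 1)] [2, 3, 5, 7, 11] =
    [443520, 9196830720] by decide +kernel] at h1
  simp only [List.mem_cons, List.not_mem_nil, or_false] at h1
  rcases h1 with h1 | h1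
  · obtain ⟨hs, hna⟩ := simple_of D M (p := 11) (k := 1) (M := 5) (by simp) h1 (by norm_num) (by norm_num)
      (by decide +kernel)
    obtain ⟨g, hg, hr⟩ := exists_real_filter OT (hS M) hna (l := [(2, 7), (3, 2), (5, 1), (7, 1), (11, 1)])
      (N := 443520) (by decide +kernel) (by rw [h1]) (fun o => Nat.beq o 443520) (by rw [h1]; rfl)
    rw [show ((cands [(2, 7), (3, 2), (5, 1), (7, 1), (11, 1)] 443520).filter fun g => Nat.beq (ordN g) 443520) =
      [.m22] by decide +kernel] at hg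
    rw [List.mem_singleton] at hg
    subst hg
    exact hr
  · exact absurd (Subgroup.eq_top_of_card_eq M (by rw [h1, hcard])) hM

/-- A proper subgroup of `U₄(3)` misses a prime, or is isomorphic to `A₇` or to `L₃(4)`. -/
theorem pgap_u43 (OT : OrderTable.{0})
    (hS : ∀ (X : Type) [Group X] [Finite X] [IsSimpleGroup X], Cfsg.IsKnownSimple' X)
    (hF : Fintype.card F = 3 ^ 2) (M : Subgroup (PSU 4 F 3)) (hM : M ≠ ⊤) :
    PGap (PSU 4 F 3) M ∨ Nonempty (M ≃* alternatingGroup (Fin 7)) ∨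
      ∃ (K : Type) (_ : Field K) (_ : Fintype K), Fintype.card K = 4 ∧ Nonempty (M ≃* Matrix.ProjectiveSpecialLinearGroup (Fin 3) K) := by
  have h9 : Fintype.card F = 9 := by rw [hF]; norm_num
  have hcard := H844.USeven.card_psu h9
  have : Finite (PSU 4 F 3) := Nat.finite_of_card_ne_zero (by rw [hcard]; norm_num)
  by_cases hall : ∀ r ∈ [2, 3, 5, 7], r ∣ Nat.card M
  swap
  · push Not at hall
    obtain ⟨r, hr, hrM⟩ := hall
    simp only [List.mem_cons, List.not_mem_nil, or_false] at hr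
    refine Or.inl ⟨r, ?_, ?_, hrM⟩
    · rcases hr with rfl | rfl | rfl | rfl <;> norm_num
    · rw [hcard]
      rcases hr with rfl | rfl | rfl | rfl <;> norm_num
  right
  have hv : valid [(2, 7), (3, 6), (5, 1), (7, 1)] 3265920 = true := by decide +kernel
  have D : H970.StabNum.Data (PSU 4 F 3) [(5, 1, 4), (7, 1, 3)] [2, 3, 5, 7] tbl43 := by
    refine H970.TwoSpor.mk_data OT hS hcard hv (by decide +kernel) ?_ ?_ (by decide +kernel) ?_
    · intro x hx
      simp only [List.mem_cons, List.not_mem_nil, or_false] at hx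
      rcases hx with rfl | rfl <;> norm_num
    · intro r hr
      simp only [List.mem_cons, List.not_mem_nil, or_false] at hr
      rcases hr with rfl | rfl | rfl | rfl <;> norm_num
    · intro x hx P hP
      simp only [List.mem_cons, List.not_mem_nil, or_false] at hx
      rcases hx with rfl | rfl
      · refine cent_norm (by norm_num) (by rw [hcard]; norm_num) (selfcent5_u43 hF) ?_ P hP
        intro m hm _ _
        exact hm
      · refine cent_norm (by norm_num) (by rw [hcard]; norm_num) (selfcent7_u43 hF) ?_ P hP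
        intro m hm _ hmod
        rw [hcard] at hmod
        have h1 : m ∈ Nat.divisors 6 := Nat.mem_divisors.2 ⟨hm, by norm_num⟩
        rw [show Nat.divisors 6 = {1, 2, 3, 6} by decide] at h1
        simp only [Finset.mem_insert, Finset.mem_singleton] at h1
        rcases h1 with rfl | rfl | rfl | rfl
        · norm_num at hmod
        · norm_num at hmod
        · norm_num
        · norm_num at hmod
  have h1 := mem_surv D (by rw [hcard]; exact hv) M hall
  rw [show surv [(5, 1, 4), (7, 1, 3)] [2, 3, 5, 7] tbl43 [(2, 7), (3, 6), (5, 1), (7, 1)] [2, 3, 5, 7] =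
    [2520, 20160, 3265920] by decide +kernel] at h1
  simp only [List.mem_cons, List.not_mem_nil, or_false] at h1
  rcases h1 with h1 | h1 | h1
  · obtain ⟨hs, hna⟩ := simple_of D M (p := 7) (k := 1) (M := 3) (by simp) h1 (by norm_num) (by norm_num)
      (by decide +kernel)
    obtain ⟨g, hg, hr⟩ := exists_real_filter OT (hS M) hna (l := [(2, 3), (3, 2), (5, 1), (7, 1)])
      (N := 2520) (by decide +kernel) (by rw [h1]) (fun o => Nat.beq o 2520) (by rw [h1]; rfl)
    rw [show ((cands [(2, 3), (3, 2), (5, 1), (7, 1)] 2520).filter fun g => Nat.beq (ordN g) 2520) =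
      [.alt 7] by decide +kernel] at hg
    rw [List.mem_singleton] at hg
    subst hg
    exact Or.inl hr
  · obtain ⟨hs, hna⟩ := simple_of D M (p := 5) (k := 1) (M := 4) (by simp) h1 (by norm_num) (by norm_num)
      (by decide +kernel)
    obtain ⟨g, hg, hr⟩ := exists_real_filter OT (hS M) hna (l := [(2, 6), (3, 2), (5, 1), (7, 1)])
      (N := 20160) (by decide +kernel) (by rw [h1]) (fun o => Nat.beq o 20160) (by rw [h1]; rfl)
    have hA8 : ¬ Nonempty (M ≃* alternatingGroup (Fin 8)) := by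
      rintro ⟨e⟩
      obtain ⟨z, hz⟩ := fifteen_a8
      refine no_fifteen_u43 hF ((e.symm z : M) : PSU 4 F 3) ?_
      rw [Subgroup.orderOf_coe, MulEquiv.orderOf_eq, hz]
    rw [show ((cands [(2, 6), (3, 2), (5, 1), (7, 1)] 20160).filter fun g => Nat.beq (ordN g) 20160) =
      [.alt 8, .psl 4 2, .psl 3 4] by decide +kernel] at hg
    simp only [List.mem_cons, List.not_mem_nil, or_false] at hg
    rcases hg with rfl | rfl | rfl
    · exact absurd hr hA8
    · obtain ⟨K, _, _, hK, ⟨e⟩⟩ := hr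
      obtain ⟨f⟩ := S0256.result (F := K) hK
      exact absurd ⟨e.trans f⟩ hA8
    · exact Or.inr hr
  · exact absurd (Subgroup.eq_top_of_card_eq M (by rw [h1, hcard])) hM

end Cfsg.Agent.H251.Small
end
end
end
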